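import Cfsg.Agent.Lib.CosetTable.Fi23Simple.Data
import Cfsg.Agent.Lib.CosetTable.Maximal
import Cfsg.Agent.Lib.CosetTable.Fi23m.Data

/-! Generated checks for the base and orbit data of `Fi23m`. -/

set_option Elab.async false
set_option maxRecDepth 10000

namespace Cfsg.Agent.Lib.CosetTable.Fi23Simple

open Cfsg.Agent.Lib.CosetTable

theorem lev1_run1 : rangeAll (lev1.reachOK Fi23m.tab ws1) 96 0 = true := by decide +kernel

theorem lev1_run2 : rangeAll (lev1.reachOK Fi23m.tab ws1) 96 96 = true := by decide +kernel

theorem lev1_run3 : rangeAll (lev1.reachOK Fi23m.tab ws1) 96 192 = true := by decide +kernel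

theorem lev1_run4 : rangeAll (lev1.reachOK Fi23m.tab ws1) 96 288 = true := by decide +kernel

theorem lev1_run5 : rangeAll (lev1.reachOK Fi23m.tab ws1) 96 384 = true := by decide +kernel

theorem lev1_run6 : rangeAll (lev1.reachOK Fi23m.tab ws1) 96 480 = true := by decide +kernel

theorem lev1_run7 : rangeAll (lev1.reachOK Fi23m.tab ws1) 96 576 = true := by decide +kernel

theorem lev1_run8 : rangeAll (lev1.reachOK Fi23m.tab ws1) 96 672 = true := by decide +kernel

theorem lev1_run9 : rangeAll (lev1.reachOK Fi23m.tab ws1) 96 768 = true := by decide +kernel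

theorem lev1_run10 : rangeAll (lev1.reachOK Fi23m.tab ws1) 96 864 = true := by decide +kernel

theorem lev1_run11 : rangeAll (lev1.reachOK Fi23m.tab ws1) 96 960 = true := by decide +kernel

theorem lev1_run12 : rangeAll (lev1.reachOK Fi23m.tab ws1) 96 1056 = true := by decide +kernel

theorem lev1_run13 : rangeAll (lev1.reachOK Fi23m.tab ws1) 96 1152 = true := by decide +kernel

theorem lev1_run14 : rangeAll (lev1.reachOK Fi23m.tab ws1) 96 1248 = true := by decide +kernel

theorem lev1_run15 : rangeAll (lev1.reachOK Fi23m.tab ws1) 96 1344 = true := by decide +kernel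

theorem lev1_run16 : rangeAll (lev1.reachOK Fi23m.tab ws1) 96 1440 = true := by decide +kernel

theorem lev1_run17 : rangeAll (lev1.reachOK Fi23m.tab ws1) 96 1536 = true := by decide +kernel

theorem lev1_run18 : rangeAll (lev1.reachOK Fi23m.tab ws1) 96 1632 = true := by decide +kernel

theorem lev1_run19 : rangeAll (lev1.reachOK Fi23m.tab ws1) 96 1728 = true := by decide +kernel

theorem lev1_run20 : rangeAll (lev1.reachOK Fi23m.tab ws1) 96 1824 = true := by decide +kernel

theorem lev1_run21 : rangeAll (lev1.reachOK Fi23m.tab ws1) 96 1920 = true := by decide +kernel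

theorem lev1_run22 : rangeAll (lev1.reachOK Fi23m.tab ws1) 96 2016 = true := by decide +kernel

theorem lev1_run23 : rangeAll (lev1.reachOK Fi23m.tab ws1) 96 2112 = true := by decide +kernel

theorem lev1_run24 : rangeAll (lev1.reachOK Fi23m.tab ws1) 96 2208 = true := by decide +kernel

theorem lev1_run25 : rangeAll (lev1.reachOK Fi23m.tab ws1) 96 2304 = true := by decide +kernel

theorem lev1_run26 : rangeAll (lev1.reachOK Fi23m.tab ws1) 96 2400 = true := by decide +kernel

theorem lev1_run27 : rangeAll (lev1.reachOK Fi23m.tab ws1) 96 2496 = true := by decide +kernel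

theorem lev1_run28 : rangeAll (lev1.reachOK Fi23m.tab ws1) 96 2592 = true := by decide +kernel

theorem lev1_run29 : rangeAll (lev1.reachOK Fi23m.tab ws1) 96 2688 = true := by decide +kernel

theorem lev1_run30 : rangeAll (lev1.reachOK Fi23m.tab ws1) 96 2784 = true := by decide +kernel

theorem lev1_run31 : rangeAll (lev1.reachOK Fi23m.tab ws1) 96 2880 = true := by decide +kernel

theorem lev1_run32 : rangeAll (lev1.reachOK Fi23m.tab ws1) 96 2976 = true := by decide +kernel

theorem lev1_run33 : rangeAll (lev1.reachOK Fi23m.tab ws1) 96 3072 = true := by decide +kernel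

theorem lev1_run34 : rangeAll (lev1.reachOK Fi23m.tab ws1) 96 3168 = true := by decide +kernel

theorem lev1_run35 : rangeAll (lev1.reachOK Fi23m.tab ws1) 96 3264 = true := by decide +kernel

theorem lev1_run36 : rangeAll (lev1.reachOK Fi23m.tab ws1) 96 3360 = true := by decide +kernel

theorem lev1_run37 : rangeAll (lev1.reachOK Fi23m.tab ws1) 96 3456 = true := by decide +kernel

theorem lev1_run38 : rangeAll (lev1.reachOK Fi23m.tab ws1) 96 3552 = true := by decide +kernel

theorem lev1_run39 : rangeAll (lev1.reachOK Fi23m.tab ws1) 96 3648 = true := by decide +kernel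

theorem lev1_run40 : rangeAll (lev1.reachOK Fi23m.tab ws1) 96 3744 = true := by decide +kernel

theorem lev1_run41 : rangeAll (lev1.reachOK Fi23m.tab ws1) 96 3840 = true := by decide +kernel

theorem lev1_run42 : rangeAll (lev1.reachOK Fi23m.tab ws1) 96 3936 = true := by decide +kernel

theorem lev1_run43 : rangeAll (lev1.reachOK Fi23m.tab ws1) 96 4032 = true := by decide +kernel

theorem lev1_run44 : rangeAll (lev1.reachOK Fi23m.tab ws1) 96 4128 = true := by decide +kernel

theorem lev1_run45 : rangeAll (lev1.reachOK Fi23m.tab ws1) 96 4224 = true := by decide +kernel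

theorem lev1_run46 : rangeAll (lev1.reachOK Fi23m.tab ws1) 96 4320 = true := by decide +kernel

theorem lev1_run47 : rangeAll (lev1.reachOK Fi23m.tab ws1) 96 4416 = true := by decide +kernel

theorem lev1_run48 : rangeAll (lev1.reachOK Fi23m.tab ws1) 96 4512 = true := by decide +kernel

theorem lev1_run49 : rangeAll (lev1.reachOK Fi23m.tab ws1) 96 4608 = true := by decide +kernel

theorem lev1_run50 : rangeAll (lev1.reachOK Fi23m.tab ws1) 96 4704 = true := by decide +kernel

theorem lev1_run51 : rangeAll (lev1.reachOK Fi23m.tab ws1) 96 4800 = true := by decide +kernel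

theorem lev1_run52 : rangeAll (lev1.reachOK Fi23m.tab ws1) 96 4896 = true := by decide +kernel

theorem lev1_run53 : rangeAll (lev1.reachOK Fi23m.tab ws1) 96 4992 = true := by decide +kernel

theorem lev1_run54 : rangeAll (lev1.reachOK Fi23m.tab ws1) 96 5088 = true := by decide +kernel

theorem lev1_run55 : rangeAll (lev1.reachOK Fi23m.tab ws1) 96 5184 = true := by decide +kernel

theorem lev1_run56 : rangeAll (lev1.reachOK Fi23m.tab ws1) 96 5280 = true := by decide +kernel

theorem lev1_run57 : rangeAll (lev1.reachOK Fi23m.tab ws1) 96 5376 = true := by decide +kernel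

theorem lev1_run58 : rangeAll (lev1.reachOK Fi23m.tab ws1) 96 5472 = true := by decide +kernel

theorem lev1_run59 : rangeAll (lev1.reachOK Fi23m.tab ws1) 96 5568 = true := by decide +kernel

theorem lev1_run60 : rangeAll (lev1.reachOK Fi23m.tab ws1) 96 5664 = true := by decide +kernel

theorem lev1_run61 : rangeAll (lev1.reachOK Fi23m.tab ws1) 96 5760 = true := by decide +kernel

theorem lev1_run62 : rangeAll (lev1.reachOK Fi23m.tab ws1) 96 5856 = true := by decide +kernel

theorem lev1_run63 : rangeAll (lev1.reachOK Fi23m.tab ws1) 96 5952 = true := by decide +kernel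

theorem lev1_run64 : rangeAll (lev1.reachOK Fi23m.tab ws1) 96 6048 = true := by decide +kernel

theorem lev1_run65 : rangeAll (lev1.reachOK Fi23m.tab ws1) 96 6144 = true := by decide +kernel

theorem lev1_run66 : rangeAll (lev1.reachOK Fi23m.tab ws1) 96 6240 = true := by decide +kernel

theorem lev1_run67 : rangeAll (lev1.reachOK Fi23m.tab ws1) 96 6336 = true := by decide +kernel

theorem lev1_run68 : rangeAll (lev1.reachOK Fi23m.tab ws1) 96 6432 = true := by decide +kernel

theorem lev1_run69 : rangeAll (lev1.reachOK Fi23m.tab ws1) 96 6528 = true := by decide +kernel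

theorem lev1_run70 : rangeAll (lev1.reachOK Fi23m.tab ws1) 96 6624 = true := by decide +kernel

theorem lev1_run71 : rangeAll (lev1.reachOK Fi23m.tab ws1) 96 6720 = true := by decide +kernel

theorem lev1_run72 : rangeAll (lev1.reachOK Fi23m.tab ws1) 96 6816 = true := by decide +kernel

theorem lev1_run73 : rangeAll (lev1.reachOK Fi23m.tab ws1) 96 6912 = true := by decide +kernel

theorem lev1_run74 : rangeAll (lev1.reachOK Fi23m.tab ws1) 96 7008 = true := by decide +kernel

theorem lev1_run75 : rangeAll (lev1.reachOK Fi23m.tab ws1) 96 7104 = true := by decide +kernel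

theorem lev1_run76 : rangeAll (lev1.reachOK Fi23m.tab ws1) 96 7200 = true := by decide +kernel

theorem lev1_run77 : rangeAll (lev1.reachOK Fi23m.tab ws1) 96 7296 = true := by decide +kernel

theorem lev1_run78 : rangeAll (lev1.reachOK Fi23m.tab ws1) 96 7392 = true := by decide +kernel

theorem lev1_run79 : rangeAll (lev1.reachOK Fi23m.tab ws1) 96 7488 = true := by decide +kernel

theorem lev1_run80 : rangeAll (lev1.reachOK Fi23m.tab ws1) 96 7584 = true := by decide +kernel

theorem lev1_run81 : rangeAll (lev1.reachOK Fi23m.tab ws1) 96 7680 = true := by decide +kernel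

theorem lev1_run82 : rangeAll (lev1.reachOK Fi23m.tab ws1) 96 7776 = true := by decide +kernel

theorem lev1_run83 : rangeAll (lev1.reachOK Fi23m.tab ws1) 96 7872 = true := by decide +kernel

theorem lev1_run84 : rangeAll (lev1.reachOK Fi23m.tab ws1) 96 7968 = true := by decide +kernel

theorem lev1_run85 : rangeAll (lev1.reachOK Fi23m.tab ws1) 96 8064 = true := by decide +kernel

theorem lev1_run86 : rangeAll (lev1.reachOK Fi23m.tab ws1) 96 8160 = true := by decide +kernel

theorem lev1_run87 : rangeAll (lev1.reachOK Fi23m.tab ws1) 96 8256 = true := by decide +kernel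

theorem lev1_run88 : rangeAll (lev1.reachOK Fi23m.tab ws1) 96 8352 = true := by decide +kernel

theorem lev1_run89 : rangeAll (lev1.reachOK Fi23m.tab ws1) 96 8448 = true := by decide +kernel

theorem lev1_run90 : rangeAll (lev1.reachOK Fi23m.tab ws1) 96 8544 = true := by decide +kernel

theorem lev1_run91 : rangeAll (lev1.reachOK Fi23m.tab ws1) 96 8640 = true := by decide +kernel

theorem lev1_run92 : rangeAll (lev1.reachOK Fi23m.tab ws1) 96 8736 = true := by decide +kernel

theorem lev1_run93 : rangeAll (lev1.reachOK Fi23m.tab ws1) 96 8832 = true := by decide +kernel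

theorem lev1_run94 : rangeAll (lev1.reachOK Fi23m.tab ws1) 96 8928 = true := by decide +kernel

theorem lev1_run95 : rangeAll (lev1.reachOK Fi23m.tab ws1) 96 9024 = true := by decide +kernel

theorem lev1_run96 : rangeAll (lev1.reachOK Fi23m.tab ws1) 96 9120 = true := by decide +kernel

theorem lev1_run97 : rangeAll (lev1.reachOK Fi23m.tab ws1) 96 9216 = true := by decide +kernel

theorem lev1_run98 : rangeAll (lev1.reachOK Fi23m.tab ws1) 96 9312 = true := by decide +kernel

theorem lev1_run99 : rangeAll (lev1.reachOK Fi23m.tab ws1) 96 9408 = true := by decide +kernel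

theorem lev1_run100 : rangeAll (lev1.reachOK Fi23m.tab ws1) 96 9504 = true := by decide +kernel

theorem lev1_run101 : rangeAll (lev1.reachOK Fi23m.tab ws1) 96 9600 = true := by decide +kernel

theorem lev1_run102 : rangeAll (lev1.reachOK Fi23m.tab ws1) 96 9696 = true := by decide +kernel

theorem lev1_run103 : rangeAll (lev1.reachOK Fi23m.tab ws1) 96 9792 = true := by decide +kernel

theorem lev1_run104 : rangeAll (lev1.reachOK Fi23m.tab ws1) 96 9888 = true := by decide +kernel

theorem lev1_run105 : rangeAll (lev1.reachOK Fi23m.tab ws1) 96 9984 = true := by decide +kernel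

theorem lev1_run106 : rangeAll (lev1.reachOK Fi23m.tab ws1) 96 10080 = true := by decide +kernel

theorem lev1_run107 : rangeAll (lev1.reachOK Fi23m.tab ws1) 96 10176 = true := by decide +kernel

theorem lev1_run108 : rangeAll (lev1.reachOK Fi23m.tab ws1) 96 10272 = true := by decide +kernel

theorem lev1_run109 : rangeAll (lev1.reachOK Fi23m.tab ws1) 96 10368 = true := by decide +kernel

theorem lev1_run110 : rangeAll (lev1.reachOK Fi23m.tab ws1) 96 10464 = true := by decide +kernel

theorem lev1_run111 : rangeAll (lev1.reachOK Fi23m.tab ws1) 96 10560 = true := by decide +kernel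

theorem lev1_run112 : rangeAll (lev1.reachOK Fi23m.tab ws1) 96 10656 = true := by decide +kernel

theorem lev1_run113 : rangeAll (lev1.reachOK Fi23m.tab ws1) 96 10752 = true := by decide +kernel

theorem lev1_run114 : rangeAll (lev1.reachOK Fi23m.tab ws1) 96 10848 = true := by decide +kernel

theorem lev1_run115 : rangeAll (lev1.reachOK Fi23m.tab ws1) 96 10944 = true := by decide +kernel

theorem lev1_run116 : rangeAll (lev1.reachOK Fi23m.tab ws1) 96 11040 = true := by decide +kernel

theorem lev1_run117 : rangeAll (lev1.reachOK Fi23m.tab ws1) 96 11136 = true := by decide +kernel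

theorem lev1_run118 : rangeAll (lev1.reachOK Fi23m.tab ws1) 96 11232 = true := by decide +kernel

theorem lev1_run119 : rangeAll (lev1.reachOK Fi23m.tab ws1) 96 11328 = true := by decide +kernel

theorem lev1_run120 : rangeAll (lev1.reachOK Fi23m.tab ws1) 96 11424 = true := by decide +kernel

theorem lev1_run121 : rangeAll (lev1.reachOK Fi23m.tab ws1) 96 11520 = true := by decide +kernel

theorem lev1_run122 : rangeAll (lev1.reachOK Fi23m.tab ws1) 96 11616 = true := by decide +kernel

theorem lev1_run123 : rangeAll (lev1.reachOK Fi23m.tab ws1) 96 11712 = true := by decide +kernel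

theorem lev1_run124 : rangeAll (lev1.reachOK Fi23m.tab ws1) 96 11808 = true := by decide +kernel

theorem lev1_run125 : rangeAll (lev1.reachOK Fi23m.tab ws1) 96 11904 = true := by decide +kernel

theorem lev1_run126 : rangeAll (lev1.reachOK Fi23m.tab ws1) 96 12000 = true := by decide +kernel

theorem lev1_run127 : rangeAll (lev1.reachOK Fi23m.tab ws1) 96 12096 = true := by decide +kernel

theorem lev1_run128 : rangeAll (lev1.reachOK Fi23m.tab ws1) 96 12192 = true := by decide +kernel

theorem lev1_run129 : rangeAll (lev1.reachOK Fi23m.tab ws1) 96 12288 = true := by decide +kernel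

theorem lev1_run130 : rangeAll (lev1.reachOK Fi23m.tab ws1) 96 12384 = true := by decide +kernel

theorem lev1_run131 : rangeAll (lev1.reachOK Fi23m.tab ws1) 96 12480 = true := by decide +kernel

theorem lev1_run132 : rangeAll (lev1.reachOK Fi23m.tab ws1) 96 12576 = true := by decide +kernel

theorem lev1_run133 : rangeAll (lev1.reachOK Fi23m.tab ws1) 96 12672 = true := by decide +kernel

theorem lev1_run134 : rangeAll (lev1.reachOK Fi23m.tab ws1) 96 12768 = true := by decide +kernel

theorem lev1_run135 : rangeAll (lev1.reachOK Fi23m.tab ws1) 96 12864 = true := by decide +kernel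

theorem lev1_run136 : rangeAll (lev1.reachOK Fi23m.tab ws1) 96 12960 = true := by decide +kernel

theorem lev1_run137 : rangeAll (lev1.reachOK Fi23m.tab ws1) 96 13056 = true := by decide +kernel

theorem lev1_run138 : rangeAll (lev1.reachOK Fi23m.tab ws1) 96 13152 = true := by decide +kernel

theorem lev1_run139 : rangeAll (lev1.reachOK Fi23m.tab ws1) 96 13248 = true := by decide +kernel

theorem lev1_run140 : rangeAll (lev1.reachOK Fi23m.tab ws1) 96 13344 = true := by decide +kernel

theorem lev1_run141 : rangeAll (lev1.reachOK Fi23m.tab ws1) 96 13440 = true := by decide +kernel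

theorem lev1_run142 : rangeAll (lev1.reachOK Fi23m.tab ws1) 96 13536 = true := by decide +kernel

theorem lev1_run143 : rangeAll (lev1.reachOK Fi23m.tab ws1) 96 13632 = true := by decide +kernel

theorem lev1_run144 : rangeAll (lev1.reachOK Fi23m.tab ws1) 96 13728 = true := by decide +kernel

theorem lev1_run145 : rangeAll (lev1.reachOK Fi23m.tab ws1) 96 13824 = true := by decide +kernel

theorem lev1_run146 : rangeAll (lev1.reachOK Fi23m.tab ws1) 96 13920 = true := by decide +kernel

theorem lev1_run147 : rangeAll (lev1.reachOK Fi23m.tab ws1) 96 14016 = true := by decide +kernel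

theorem lev1_run148 : rangeAll (lev1.reachOK Fi23m.tab ws1) 96 14112 = true := by decide +kernel

theorem lev1_run149 : rangeAll (lev1.reachOK Fi23m.tab ws1) 96 14208 = true := by decide +kernel

theorem lev1_run150 : rangeAll (lev1.reachOK Fi23m.tab ws1) 96 14304 = true := by decide +kernel

theorem lev1_run151 : rangeAll (lev1.reachOK Fi23m.tab ws1) 96 14400 = true := by decide +kernel

theorem lev1_run152 : rangeAll (lev1.reachOK Fi23m.tab ws1) 96 14496 = true := by decide +kernel

theorem lev1_run153 : rangeAll (lev1.reachOK Fi23m.tab ws1) 96 14592 = true := by decide +kernel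

theorem lev1_run154 : rangeAll (lev1.reachOK Fi23m.tab ws1) 96 14688 = true := by decide +kernel

theorem lev1_run155 : rangeAll (lev1.reachOK Fi23m.tab ws1) 96 14784 = true := by decide +kernel

theorem lev1_run156 : rangeAll (lev1.reachOK Fi23m.tab ws1) 96 14880 = true := by decide +kernel

theorem lev1_run157 : rangeAll (lev1.reachOK Fi23m.tab ws1) 96 14976 = true := by decide +kernel

theorem lev1_run158 : rangeAll (lev1.reachOK Fi23m.tab ws1) 96 15072 = true := by decide +kernel

theorem lev1_run159 : rangeAll (lev1.reachOK Fi23m.tab ws1) 96 15168 = true := by decide +kernel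

theorem lev1_run160 : rangeAll (lev1.reachOK Fi23m.tab ws1) 96 15264 = true := by decide +kernel

theorem lev1_run161 : rangeAll (lev1.reachOK Fi23m.tab ws1) 96 15360 = true := by decide +kernel

theorem lev1_run162 : rangeAll (lev1.reachOK Fi23m.tab ws1) 96 15456 = true := by decide +kernel

theorem lev1_run163 : rangeAll (lev1.reachOK Fi23m.tab ws1) 96 15552 = true := by decide +kernel

theorem lev1_run164 : rangeAll (lev1.reachOK Fi23m.tab ws1) 96 15648 = true := by decide +kernel

theorem lev1_run165 : rangeAll (lev1.reachOK Fi23m.tab ws1) 96 15744 = true := by decide +kernel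

theorem lev1_run166 : rangeAll (lev1.reachOK Fi23m.tab ws1) 96 15840 = true := by decide +kernel

theorem lev1_run167 : rangeAll (lev1.reachOK Fi23m.tab ws1) 96 15936 = true := by decide +kernel

theorem lev1_run168 : rangeAll (lev1.reachOK Fi23m.tab ws1) 96 16032 = true := by decide +kernel

theorem lev1_run169 : rangeAll (lev1.reachOK Fi23m.tab ws1) 96 16128 = true := by decide +kernel

theorem lev1_run170 : rangeAll (lev1.reachOK Fi23m.tab ws1) 96 16224 = true := by decide +kernel

theorem lev1_run171 : rangeAll (lev1.reachOK Fi23m.tab ws1) 96 16320 = true := by decide +kernel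

theorem lev1_run172 : rangeAll (lev1.reachOK Fi23m.tab ws1) 96 16416 = true := by decide +kernel

theorem lev1_run173 : rangeAll (lev1.reachOK Fi23m.tab ws1) 96 16512 = true := by decide +kernel

theorem lev1_run174 : rangeAll (lev1.reachOK Fi23m.tab ws1) 96 16608 = true := by decide +kernel

theorem lev1_run175 : rangeAll (lev1.reachOK Fi23m.tab ws1) 96 16704 = true := by decide +kernel

theorem lev1_run176 : rangeAll (lev1.reachOK Fi23m.tab ws1) 96 16800 = true := by decide +kernel

theorem lev1_run177 : rangeAll (lev1.reachOK Fi23m.tab ws1) 96 16896 = true := by decide +kernel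

theorem lev1_run178 : rangeAll (lev1.reachOK Fi23m.tab ws1) 96 16992 = true := by decide +kernel

theorem lev1_run179 : rangeAll (lev1.reachOK Fi23m.tab ws1) 96 17088 = true := by decide +kernel

theorem lev1_run180 : rangeAll (lev1.reachOK Fi23m.tab ws1) 96 17184 = true := by decide +kernel

theorem lev1_run181 : rangeAll (lev1.reachOK Fi23m.tab ws1) 96 17280 = true := by decide +kernel

theorem lev1_run182 : rangeAll (lev1.reachOK Fi23m.tab ws1) 96 17376 = true := by decide +kernel

theorem lev1_run183 : rangeAll (lev1.reachOK Fi23m.tab ws1) 96 17472 = true := by decide +kernel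

theorem lev1_run184 : rangeAll (lev1.reachOK Fi23m.tab ws1) 96 17568 = true := by decide +kernel

theorem lev1_run185 : rangeAll (lev1.reachOK Fi23m.tab ws1) 96 17664 = true := by decide +kernel

theorem lev1_run186 : rangeAll (lev1.reachOK Fi23m.tab ws1) 96 17760 = true := by decide +kernel

theorem lev1_run187 : rangeAll (lev1.reachOK Fi23m.tab ws1) 96 17856 = true := by decide +kernel

theorem lev1_run188 : rangeAll (lev1.reachOK Fi23m.tab ws1) 96 17952 = true := by decide +kernel

theorem lev1_run189 : rangeAll (lev1.reachOK Fi23m.tab ws1) 96 18048 = true := by decide +kernel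

theorem lev1_run190 : rangeAll (lev1.reachOK Fi23m.tab ws1) 96 18144 = true := by decide +kernel

theorem lev1_run191 : rangeAll (lev1.reachOK Fi23m.tab ws1) 96 18240 = true := by decide +kernel

theorem lev1_run192 : rangeAll (lev1.reachOK Fi23m.tab ws1) 96 18336 = true := by decide +kernel

theorem lev1_run193 : rangeAll (lev1.reachOK Fi23m.tab ws1) 96 18432 = true := by decide +kernel

theorem lev1_run194 : rangeAll (lev1.reachOK Fi23m.tab ws1) 96 18528 = true := by decide +kernel

theorem lev1_run195 : rangeAll (lev1.reachOK Fi23m.tab ws1) 96 18624 = true := by decide +kernel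

theorem lev1_run196 : rangeAll (lev1.reachOK Fi23m.tab ws1) 96 18720 = true := by decide +kernel

theorem lev1_run197 : rangeAll (lev1.reachOK Fi23m.tab ws1) 96 18816 = true := by decide +kernel

theorem lev1_run198 : rangeAll (lev1.reachOK Fi23m.tab ws1) 96 18912 = true := by decide +kernel

theorem lev1_run199 : rangeAll (lev1.reachOK Fi23m.tab ws1) 96 19008 = true := by decide +kernel

theorem lev1_run200 : rangeAll (lev1.reachOK Fi23m.tab ws1) 96 19104 = true := by decide +kernel

theorem lev1_run201 : rangeAll (lev1.reachOK Fi23m.tab ws1) 96 19200 = true := by decide +kernel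

theorem lev1_run202 : rangeAll (lev1.reachOK Fi23m.tab ws1) 96 19296 = true := by decide +kernel

theorem lev1_run203 : rangeAll (lev1.reachOK Fi23m.tab ws1) 96 19392 = true := by decide +kernel

theorem lev1_run204 : rangeAll (lev1.reachOK Fi23m.tab ws1) 96 19488 = true := by decide +kernel

theorem lev1_run205 : rangeAll (lev1.reachOK Fi23m.tab ws1) 96 19584 = true := by decide +kernel

theorem lev1_run206 : rangeAll (lev1.reachOK Fi23m.tab ws1) 96 19680 = true := by decide +kernel

theorem lev1_run207 : rangeAll (lev1.reachOK Fi23m.tab ws1) 96 19776 = true := by decide +kernel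

theorem lev1_run208 : rangeAll (lev1.reachOK Fi23m.tab ws1) 96 19872 = true := by decide +kernel

theorem lev1_run209 : rangeAll (lev1.reachOK Fi23m.tab ws1) 96 19968 = true := by decide +kernel

theorem lev1_run210 : rangeAll (lev1.reachOK Fi23m.tab ws1) 96 20064 = true := by decide +kernel

theorem lev1_run211 : rangeAll (lev1.reachOK Fi23m.tab ws1) 96 20160 = true := by decide +kernel

theorem lev1_run212 : rangeAll (lev1.reachOK Fi23m.tab ws1) 96 20256 = true := by decide +kernel

theorem lev1_run213 : rangeAll (lev1.reachOK Fi23m.tab ws1) 96 20352 = true := by decide +kernel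

theorem lev1_run214 : rangeAll (lev1.reachOK Fi23m.tab ws1) 96 20448 = true := by decide +kernel

theorem lev1_run215 : rangeAll (lev1.reachOK Fi23m.tab ws1) 96 20544 = true := by decide +kernel

theorem lev1_run216 : rangeAll (lev1.reachOK Fi23m.tab ws1) 96 20640 = true := by decide +kernel

theorem lev1_run217 : rangeAll (lev1.reachOK Fi23m.tab ws1) 96 20736 = true := by decide +kernel

theorem lev1_run218 : rangeAll (lev1.reachOK Fi23m.tab ws1) 96 20832 = true := by decide +kernel

theorem lev1_run219 : rangeAll (lev1.reachOK Fi23m.tab ws1) 96 20928 = true := by decide +kernel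

theorem lev1_run220 : rangeAll (lev1.reachOK Fi23m.tab ws1) 96 21024 = true := by decide +kernel

theorem lev1_run221 : rangeAll (lev1.reachOK Fi23m.tab ws1) 96 21120 = true := by decide +kernel

theorem lev1_run222 : rangeAll (lev1.reachOK Fi23m.tab ws1) 96 21216 = true := by decide +kernel

theorem lev1_run223 : rangeAll (lev1.reachOK Fi23m.tab ws1) 96 21312 = true := by decide +kernel

theorem lev1_run224 : rangeAll (lev1.reachOK Fi23m.tab ws1) 96 21408 = true := by decide +kernel

theorem lev1_run225 : rangeAll (lev1.reachOK Fi23m.tab ws1) 96 21504 = true := by decide +kernel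

theorem lev1_run226 : rangeAll (lev1.reachOK Fi23m.tab ws1) 96 21600 = true := by decide +kernel

theorem lev1_run227 : rangeAll (lev1.reachOK Fi23m.tab ws1) 96 21696 = true := by decide +kernel

theorem lev1_run228 : rangeAll (lev1.reachOK Fi23m.tab ws1) 96 21792 = true := by decide +kernel

theorem lev1_run229 : rangeAll (lev1.reachOK Fi23m.tab ws1) 96 21888 = true := by decide +kernel

theorem lev1_run230 : rangeAll (lev1.reachOK Fi23m.tab ws1) 96 21984 = true := by decide +kernel

theorem lev1_run231 : rangeAll (lev1.reachOK Fi23m.tab ws1) 96 22080 = true := by decide +kernel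

theorem lev1_run232 : rangeAll (lev1.reachOK Fi23m.tab ws1) 96 22176 = true := by decide +kernel

theorem lev1_run233 : rangeAll (lev1.reachOK Fi23m.tab ws1) 96 22272 = true := by decide +kernel

theorem lev1_run234 : rangeAll (lev1.reachOK Fi23m.tab ws1) 96 22368 = true := by decide +kernel

theorem lev1_run235 : rangeAll (lev1.reachOK Fi23m.tab ws1) 96 22464 = true := by decide +kernel

theorem lev1_run236 : rangeAll (lev1.reachOK Fi23m.tab ws1) 96 22560 = true := by decide +kernel

theorem lev1_run237 : rangeAll (lev1.reachOK Fi23m.tab ws1) 96 22656 = true := by decide +kernel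

theorem lev1_run238 : rangeAll (lev1.reachOK Fi23m.tab ws1) 96 22752 = true := by decide +kernel

theorem lev1_run239 : rangeAll (lev1.reachOK Fi23m.tab ws1) 96 22848 = true := by decide +kernel

theorem lev1_run240 : rangeAll (lev1.reachOK Fi23m.tab ws1) 96 22944 = true := by decide +kernel

theorem lev1_run241 : rangeAll (lev1.reachOK Fi23m.tab ws1) 96 23040 = true := by decide +kernel

theorem lev1_run242 : rangeAll (lev1.reachOK Fi23m.tab ws1) 96 23136 = true := by decide +kernel

theorem lev1_run243 : rangeAll (lev1.reachOK Fi23m.tab ws1) 96 23232 = true := by decide +kernel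

theorem lev1_run244 : rangeAll (lev1.reachOK Fi23m.tab ws1) 96 23328 = true := by decide +kernel

theorem lev1_run245 : rangeAll (lev1.reachOK Fi23m.tab ws1) 96 23424 = true := by decide +kernel

theorem lev1_run246 : rangeAll (lev1.reachOK Fi23m.tab ws1) 96 23520 = true := by decide +kernel

theorem lev1_run247 : rangeAll (lev1.reachOK Fi23m.tab ws1) 96 23616 = true := by decide +kernel

theorem lev1_run248 : rangeAll (lev1.reachOK Fi23m.tab ws1) 96 23712 = true := by decide +kernel

theorem lev1_run249 : rangeAll (lev1.reachOK Fi23m.tab ws1) 96 23808 = true := by decide +kernel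

theorem lev1_run250 : rangeAll (lev1.reachOK Fi23m.tab ws1) 96 23904 = true := by decide +kernel

theorem lev1_run251 : rangeAll (lev1.reachOK Fi23m.tab ws1) 96 24000 = true := by decide +kernel

theorem lev1_run252 : rangeAll (lev1.reachOK Fi23m.tab ws1) 96 24096 = true := by decide +kernel

theorem lev1_run253 : rangeAll (lev1.reachOK Fi23m.tab ws1) 96 24192 = true := by decide +kernel

theorem lev1_run254 : rangeAll (lev1.reachOK Fi23m.tab ws1) 96 24288 = true := by decide +kernel

theorem lev1_run255 : rangeAll (lev1.reachOK Fi23m.tab ws1) 96 24384 = true := by decide +kernel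

theorem lev1_run256 : rangeAll (lev1.reachOK Fi23m.tab ws1) 96 24480 = true := by decide +kernel

theorem lev1_run257 : rangeAll (lev1.reachOK Fi23m.tab ws1) 96 24576 = true := by decide +kernel

theorem lev1_run258 : rangeAll (lev1.reachOK Fi23m.tab ws1) 96 24672 = true := by decide +kernel

theorem lev1_run259 : rangeAll (lev1.reachOK Fi23m.tab ws1) 96 24768 = true := by decide +kernel

theorem lev1_run260 : rangeAll (lev1.reachOK Fi23m.tab ws1) 96 24864 = true := by decide +kernel

theorem lev1_run261 : rangeAll (lev1.reachOK Fi23m.tab ws1) 96 24960 = true := by decide +kernel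

theorem lev1_run262 : rangeAll (lev1.reachOK Fi23m.tab ws1) 96 25056 = true := by decide +kernel

theorem lev1_run263 : rangeAll (lev1.reachOK Fi23m.tab ws1) 96 25152 = true := by decide +kernel

theorem lev1_run264 : rangeAll (lev1.reachOK Fi23m.tab ws1) 96 25248 = true := by decide +kernel

theorem lev1_run265 : rangeAll (lev1.reachOK Fi23m.tab ws1) 96 25344 = true := by decide +kernel

theorem lev1_run266 : rangeAll (lev1.reachOK Fi23m.tab ws1) 96 25440 = true := by decide +kernel

theorem lev1_run267 : rangeAll (lev1.reachOK Fi23m.tab ws1) 96 25536 = true := by decide +kernel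

theorem lev1_run268 : rangeAll (lev1.reachOK Fi23m.tab ws1) 96 25632 = true := by decide +kernel

theorem lev1_run269 : rangeAll (lev1.reachOK Fi23m.tab ws1) 96 25728 = true := by decide +kernel

theorem lev1_run270 : rangeAll (lev1.reachOK Fi23m.tab ws1) 96 25824 = true := by decide +kernel

theorem lev1_run271 : rangeAll (lev1.reachOK Fi23m.tab ws1) 96 25920 = true := by decide +kernel

theorem lev1_run272 : rangeAll (lev1.reachOK Fi23m.tab ws1) 96 26016 = true := by decide +kernel

theorem lev1_run273 : rangeAll (lev1.reachOK Fi23m.tab ws1) 96 26112 = true := by decide +kernel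

theorem lev1_run274 : rangeAll (lev1.reachOK Fi23m.tab ws1) 96 26208 = true := by decide +kernel

theorem lev1_run275 : rangeAll (lev1.reachOK Fi23m.tab ws1) 96 26304 = true := by decide +kernel

theorem lev1_run276 : rangeAll (lev1.reachOK Fi23m.tab ws1) 96 26400 = true := by decide +kernel

theorem lev1_run277 : rangeAll (lev1.reachOK Fi23m.tab ws1) 96 26496 = true := by decide +kernel

theorem lev1_run278 : rangeAll (lev1.reachOK Fi23m.tab ws1) 96 26592 = true := by decide +kernel

theorem lev1_run279 : rangeAll (lev1.reachOK Fi23m.tab ws1) 96 26688 = true := by decide +kernel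

theorem lev1_run280 : rangeAll (lev1.reachOK Fi23m.tab ws1) 96 26784 = true := by decide +kernel

theorem lev1_run281 : rangeAll (lev1.reachOK Fi23m.tab ws1) 96 26880 = true := by decide +kernel

theorem lev1_run282 : rangeAll (lev1.reachOK Fi23m.tab ws1) 96 26976 = true := by decide +kernel

theorem lev1_run283 : rangeAll (lev1.reachOK Fi23m.tab ws1) 96 27072 = true := by decide +kernel

theorem lev1_run284 : rangeAll (lev1.reachOK Fi23m.tab ws1) 96 27168 = true := by decide +kernel

theorem lev1_run285 : rangeAll (lev1.reachOK Fi23m.tab ws1) 96 27264 = true := by decide +kernel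

theorem lev1_run286 : rangeAll (lev1.reachOK Fi23m.tab ws1) 96 27360 = true := by decide +kernel

theorem lev1_run287 : rangeAll (lev1.reachOK Fi23m.tab ws1) 96 27456 = true := by decide +kernel

theorem lev1_run288 : rangeAll (lev1.reachOK Fi23m.tab ws1) 96 27552 = true := by decide +kernel

theorem lev1_run289 : rangeAll (lev1.reachOK Fi23m.tab ws1) 96 27648 = true := by decide +kernel

theorem lev1_run290 : rangeAll (lev1.reachOK Fi23m.tab ws1) 96 27744 = true := by decide +kernel

theorem lev1_run291 : rangeAll (lev1.reachOK Fi23m.tab ws1) 96 27840 = true := by decide +kernel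

theorem lev1_run292 : rangeAll (lev1.reachOK Fi23m.tab ws1) 96 27936 = true := by decide +kernel

theorem lev1_run293 : rangeAll (lev1.reachOK Fi23m.tab ws1) 96 28032 = true := by decide +kernel

theorem lev1_run294 : rangeAll (lev1.reachOK Fi23m.tab ws1) 96 28128 = true := by decide +kernel

theorem lev1_run295 : rangeAll (lev1.reachOK Fi23m.tab ws1) 96 28224 = true := by decide +kernel

theorem lev1_run296 : rangeAll (lev1.reachOK Fi23m.tab ws1) 96 28320 = true := by decide +kernel

theorem lev1_run297 : rangeAll (lev1.reachOK Fi23m.tab ws1) 96 28416 = true := by decide +kernel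

theorem lev1_run298 : rangeAll (lev1.reachOK Fi23m.tab ws1) 96 28512 = true := by decide +kernel

theorem lev1_run299 : rangeAll (lev1.reachOK Fi23m.tab ws1) 96 28608 = true := by decide +kernel

theorem lev1_run300 : rangeAll (lev1.reachOK Fi23m.tab ws1) 96 28704 = true := by decide +kernel

theorem lev1_run301 : rangeAll (lev1.reachOK Fi23m.tab ws1) 96 28800 = true := by decide +kernel

theorem lev1_run302 : rangeAll (lev1.reachOK Fi23m.tab ws1) 96 28896 = true := by decide +kernel

theorem lev1_run303 : rangeAll (lev1.reachOK Fi23m.tab ws1) 96 28992 = true := by decide +kernel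

theorem lev1_run304 : rangeAll (lev1.reachOK Fi23m.tab ws1) 96 29088 = true := by decide +kernel

theorem lev1_run305 : rangeAll (lev1.reachOK Fi23m.tab ws1) 96 29184 = true := by decide +kernel

theorem lev1_run306 : rangeAll (lev1.reachOK Fi23m.tab ws1) 96 29280 = true := by decide +kernel

theorem lev1_run307 : rangeAll (lev1.reachOK Fi23m.tab ws1) 96 29376 = true := by decide +kernel

theorem lev1_run308 : rangeAll (lev1.reachOK Fi23m.tab ws1) 96 29472 = true := by decide +kernel

theorem lev1_run309 : rangeAll (lev1.reachOK Fi23m.tab ws1) 96 29568 = true := by decide +kernel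

theorem lev1_run310 : rangeAll (lev1.reachOK Fi23m.tab ws1) 96 29664 = true := by decide +kernel

theorem lev1_run311 : rangeAll (lev1.reachOK Fi23m.tab ws1) 96 29760 = true := by decide +kernel

theorem lev1_run312 : rangeAll (lev1.reachOK Fi23m.tab ws1) 96 29856 = true := by decide +kernel

theorem lev1_run313 : rangeAll (lev1.reachOK Fi23m.tab ws1) 96 29952 = true := by decide +kernel

theorem lev1_run314 : rangeAll (lev1.reachOK Fi23m.tab ws1) 96 30048 = true := by decide +kernel

theorem lev1_run315 : rangeAll (lev1.reachOK Fi23m.tab ws1) 96 30144 = true := by decide +kernel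

theorem lev1_run316 : rangeAll (lev1.reachOK Fi23m.tab ws1) 96 30240 = true := by decide +kernel

theorem lev1_run317 : rangeAll (lev1.reachOK Fi23m.tab ws1) 96 30336 = true := by decide +kernel

theorem lev1_run318 : rangeAll (lev1.reachOK Fi23m.tab ws1) 96 30432 = true := by decide +kernel

theorem lev1_run319 : rangeAll (lev1.reachOK Fi23m.tab ws1) 96 30528 = true := by decide +kernel

theorem lev1_run320 : rangeAll (lev1.reachOK Fi23m.tab ws1) 96 30624 = true := by decide +kernel

theorem lev1_run321 : rangeAll (lev1.reachOK Fi23m.tab ws1) 96 30720 = true := by decide +kernel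

theorem lev1_run322 : rangeAll (lev1.reachOK Fi23m.tab ws1) 96 30816 = true := by decide +kernel

theorem lev1_run323 : rangeAll (lev1.reachOK Fi23m.tab ws1) 96 30912 = true := by decide +kernel

theorem lev1_run324 : rangeAll (lev1.reachOK Fi23m.tab ws1) 96 31008 = true := by decide +kernel

theorem lev1_run325 : rangeAll (lev1.reachOK Fi23m.tab ws1) 96 31104 = true := by decide +kernel

theorem lev1_run326 : rangeAll (lev1.reachOK Fi23m.tab ws1) 96 31200 = true := by decide +kernel

theorem lev1_run327 : rangeAll (lev1.reachOK Fi23m.tab ws1) 96 31296 = true := by decide +kernel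

theorem lev1_run328 : rangeAll (lev1.reachOK Fi23m.tab ws1) 96 31392 = true := by decide +kernel

theorem lev1_run329 : rangeAll (lev1.reachOK Fi23m.tab ws1) 96 31488 = true := by decide +kernel

theorem lev1_run330 : rangeAll (lev1.reachOK Fi23m.tab ws1) 87 31584 = true := by decide +kernel

theorem lev1_ok : Below (lev1.reachOK Fi23m.tab ws1) lev1.m :=
  ((((((((((((((((((((((((((((((((((((((((((((((((((((((((((((((((((((((((((((((((((((((((((((((((((((((((((((((((((((((((((((((((((((((((((((((((((((((((((((((((((((((((((((((((((((((((((((((((((((((((((((((((((((((((((((((((((((((((((((((((((((((((((((((((((((((((((((((((((((((((((((((((((((((((((((((((((((((((((((((((((((((((((Below.zero _).step (b := 96) lev1_run1 rfl).step (b := 192) lev1_run2 rfl).step (b := 288) lev1_run3 rfl).step (b := 384) lev1_run4 rfl).step (b := 480) lev1_run5 rfl).step (b := 576) lev1_run6 rfl).step (b := 672) lev1_run7 rfl).step (b := 768) lev1_run8 rfl).step (b := 864) lev1_run9 rfl).step (b := 960) lev1_run10 rfl).step (b := 1056) lev1_run11 rfl).step (b := 1152) lev1_run12 rfl).step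 (b := 1248) lev1_run13 rfl).step (b := 1344) lev1_run14 rfl).step (b := 1440) lev1_run15 rfl).step (b := 1536) lev1_run16 rfl).step (b := 1632) lev1_run17 rfl).step (b := 1728) lev1_run18 rfl).step (b := 1824) lev1_run19 rfl).step (b := 1920) lev1_run20 rfl).step (b := 2016) lev1_run21 rfl).step (b := 2112) lev1_run22 rfl).step (b := 2208) lev1_run23 rfl).step (b := 2304) lev1_run24 rfl).step (b := 2400) lev1_run25 rfl).step (b := 2496) lev1_run26 rfl).step (b := 2592) lev1_run27 rfl).step (b := 2688) lev1_run28 rfl).step (b := 2784) lev1_run29 rfl).step (b := 2880) lev1_run30 rfl).step (b := 2976) lev1_run31 rfl).step (b := 3072) lev1_run32 rfl).step (b := 3168) lev1_run33 rfl).step (b := 3264) lev1_run34 rfl).step (b := 3360) lev1_run35 rfl).step (b := 3456) lev1_run36 rfl).step (b := 3552) lev1_run37 rfl).step (b := 3648) lev1_run38 rfl).step (b := 3744) lev1_run39 rfl).step (b := 3840) lev1_run40 rfl).step (b := 3936) lev1_run41 rfl).step (b := 4032) lev1_run42 rfl).step (b := 4128) lev1_run43 rfl).step (b := 4224) lev1_run44 rfl).step (b := 4320) lev1_run45 rfl).step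 (b := 4416) lev1_run46 rfl).step (b := 4512) lev1_run47 rfl).step (b := 4608) lev1_run48 rfl).step (b := 4704) lev1_run49 rfl).step (b := 4800) lev1_run50 rfl).step (b := 4896) lev1_run51 rfl).step (b := 4992) lev1_run52 rfl).step (b := 5088) lev1_run53 rfl).step (b := 5184) lev1_run54 rfl).step (b := 5280) lev1_run55 rfl).step (b := 5376) lev1_run56 rfl).step (b := 5472) lev1_run57 rfl).step (b := 5568) lev1_run58 rfl).step (b := 5664) lev1_run59 rfl).step (b := 5760) lev1_run60 rfl).step (b := 5856) lev1_run61 rfl).step (b := 5952) lev1_run62 rfl).step (b := 6048) lev1_run63 rfl).step (b := 6144) lev1_run64 rfl).step (b := 6240) lev1_run65 rfl).step (b := 6336) lev1_run66 rfl).step (b := 6432) lev1_run67 rfl).step (b := 6528) lev1_run68 rfl).step (b := 6624) lev1_run69 rfl).step (b := 6720) lev1_run70 rfl).step (b := 6816) lev1_run71 rfl).step (b := 6912) lev1_run72 rfl).step (b := 7008) lev1_run73 rfl).step (b := 7104) lev1_run74 rfl).step (b := 7200) lev1_run75 rfl).step (b := 7296) lev1_run76 rfl).step (b := 7392) lev1_run77 rfl).step (b := 7488) lev1_run78 rfl).step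 (b := 7584) lev1_run79 rfl).step (b := 7680) lev1_run80 rfl).step (b := 7776) lev1_run81 rfl).step (b := 7872) lev1_run82 rfl).step (b := 7968) lev1_run83 rfl).step (b := 8064) lev1_run84 rfl).step (b := 8160) lev1_run85 rfl).step (b := 8256) lev1_run86 rfl).step (b := 8352) lev1_run87 rfl).step (b := 8448) lev1_run88 rfl).step (b := 8544) lev1_run89 rfl).step (b := 8640) lev1_run90 rfl).step (b := 8736) lev1_run91 rfl).step (b := 8832) lev1_run92 rfl).step (b := 8928) lev1_run93 rfl).step (b := 9024) lev1_run94 rfl).step (b := 9120) lev1_run95 rfl).step (b := 9216) lev1_run96 rfl).step (b := 9312) lev1_run97 rfl).step (b := 9408) lev1_run98 rfl).step (b := 9504) lev1_run99 rfl).step (b := 9600) lev1_run100 rfl).step (b := 9696) lev1_run101 rfl).step (b := 9792) lev1_run102 rfl).step (b := 9888) lev1_run103 rfl).step (b := 9984) lev1_run104 rfl).step (b := 10080) lev1_run105 rfl).step (b := 10176) lev1_run106 rfl).step (b := 10272) lev1_run107 rfl).step (b := 10368) lev1_run108 rfl).step (b := 10464) lev1_run109 rfl).step (b := 10560) lev1_run110 rfl).step (b := 10656)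 lev1_run111 rfl).step (b := 10752) lev1_run112 rfl).step (b := 10848) lev1_run113 rfl).step (b := 10944) lev1_run114 rfl).step (b := 11040) lev1_run115 rfl).step (b := 11136) lev1_run116 rfl).step (b := 11232) lev1_run117 rfl).step (b := 11328) lev1_run118 rfl).step (b := 11424) lev1_run119 rfl).step (b := 11520) lev1_run120 rfl).step (b := 11616) lev1_run121 rfl).step (b := 11712) lev1_run122 rfl).step (b := 11808) lev1_run123 rfl).step (b := 11904) lev1_run124 rfl).step (b := 12000) lev1_run125 rfl).step (b := 12096) lev1_run126 rfl).step (b := 12192) lev1_run127 rfl).step (b := 12288) lev1_run128 rfl).step (b := 12384) lev1_run129 rfl).step (b := 12480) lev1_run130 rfl).step (b := 12576) lev1_run131 rfl).step (b := 12672) lev1_run132 rfl).step (b := 12768) lev1_run133 rfl).step (b := 12864) lev1_run134 rfl).step (b := 12960) lev1_run135 rfl).step (b := 13056) lev1_run136 rfl).step (b := 13152) lev1_run137 rfl).step (b := 13248) lev1_run138 rfl).step (b := 13344) lev1_run139 rfl).step (b := 13440) lev1_run140 rfl).step (b := 13536) lev1_run141 rfl).step (b := 13632)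 lev1_run142 rfl).step (b := 13728) lev1_run143 rfl).step (b := 13824) lev1_run144 rfl).step (b := 13920) lev1_run145 rfl).step (b := 14016) lev1_run146 rfl).step (b := 14112) lev1_run147 rfl).step (b := 14208) lev1_run148 rfl).step (b := 14304) lev1_run149 rfl).step (b := 14400) lev1_run150 rfl).step (b := 14496) lev1_run151 rfl).step (b := 14592) lev1_run152 rfl).step (b := 14688) lev1_run153 rfl).step (b := 14784) lev1_run154 rfl).step (b := 14880) lev1_run155 rfl).step (b := 14976) lev1_run156 rfl).step (b := 15072) lev1_run157 rfl).step (b := 15168) lev1_run158 rfl).step (b := 15264) lev1_run159 rfl).step (b := 15360) lev1_run160 rfl).step (b := 15456) lev1_run161 rfl).step (b := 15552) lev1_run162 rfl).step (b := 15648) lev1_run163 rfl).step (b := 15744) lev1_run164 rfl).step (b := 15840) lev1_run165 rfl).step (b := 15936) lev1_run166 rfl).step (b := 16032) lev1_run167 rfl).step (b := 16128) lev1_run168 rfl).step (b := 16224) lev1_run169 rfl).step (b := 16320) lev1_run170 rfl).step (b := 16416) lev1_run171 rfl).step (b := 16512) lev1_run172 rfl).step (b := 16608)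 lev1_run173 rfl).step (b := 16704) lev1_run174 rfl).step (b := 16800) lev1_run175 rfl).step (b := 16896) lev1_run176 rfl).step (b := 16992) lev1_run177 rfl).step (b := 17088) lev1_run178 rfl).step (b := 17184) lev1_run179 rfl).step (b := 17280) lev1_run180 rfl).step (b := 17376) lev1_run181 rfl).step (b := 17472) lev1_run182 rfl).step (b := 17568) lev1_run183 rfl).step (b := 17664) lev1_run184 rfl).step (b := 17760) lev1_run185 rfl).step (b := 17856) lev1_run186 rfl).step (b := 17952) lev1_run187 rfl).step (b := 18048) lev1_run188 rfl).step (b := 18144) lev1_run189 rfl).step (b := 18240) lev1_run190 rfl).step (b := 18336) lev1_run191 rfl).step (b := 18432) lev1_run192 rfl).step (b := 18528) lev1_run193 rfl).step (b := 18624) lev1_run194 rfl).step (b := 18720) lev1_run195 rfl).step (b := 18816) lev1_run196 rfl).step (b := 18912) lev1_run197 rfl).step (b := 19008) lev1_run198 rfl).step (b := 19104) lev1_run199 rfl).step (b := 19200) lev1_run200 rfl).step (b := 19296) lev1_run201 rfl).step (b := 19392) lev1_run202 rfl).step (b := 19488) lev1_run203 rfl).step (b := 19584)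 lev1_run204 rfl).step (b := 19680) lev1_run205 rfl).step (b := 19776) lev1_run206 rfl).step (b := 19872) lev1_run207 rfl).step (b := 19968) lev1_run208 rfl).step (b := 20064) lev1_run209 rfl).step (b := 20160) lev1_run210 rfl).step (b := 20256) lev1_run211 rfl).step (b := 20352) lev1_run212 rfl).step (b := 20448) lev1_run213 rfl).step (b := 20544) lev1_run214 rfl).step (b := 20640) lev1_run215 rfl).step (b := 20736) lev1_run216 rfl).step (b := 20832) lev1_run217 rfl).step (b := 20928) lev1_run218 rfl).step (b := 21024) lev1_run219 rfl).step (b := 21120) lev1_run220 rfl).step (b := 21216) lev1_run221 rfl).step (b := 21312) lev1_run222 rfl).step (b := 21408) lev1_run223 rfl).step (b := 21504) lev1_run224 rfl).step (b := 21600) lev1_run225 rfl).step (b := 21696) lev1_run226 rfl).step (b := 21792) lev1_run227 rfl).step (b := 21888) lev1_run228 rfl).step (b := 21984) lev1_run229 rfl).step (b := 22080) lev1_run230 rfl).step (b := 22176) lev1_run231 rfl).step (b := 22272) lev1_run232 rfl).step (b := 22368) lev1_run233 rfl).step (b := 22464) lev1_run234 rfl).step (b := 22560)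 lev1_run235 rfl).step (b := 22656) lev1_run236 rfl).step (b := 22752) lev1_run237 rfl).step (b := 22848) lev1_run238 rfl).step (b := 22944) lev1_run239 rfl).step (b := 23040) lev1_run240 rfl).step (b := 23136) lev1_run241 rfl).step (b := 23232) lev1_run242 rfl).step (b := 23328) lev1_run243 rfl).step (b := 23424) lev1_run244 rfl).step (b := 23520) lev1_run245 rfl).step (b := 23616) lev1_run246 rfl).step (b := 23712) lev1_run247 rfl).step (b := 23808) lev1_run248 rfl).step (b := 23904) lev1_run249 rfl).step (b := 24000) lev1_run250 rfl).step (b := 24096) lev1_run251 rfl).step (b := 24192) lev1_run252 rfl).step (b := 24288) lev1_run253 rfl).step (b := 24384) lev1_run254 rfl).step (b := 24480) lev1_run255 rfl).step (b := 24576) lev1_run256 rfl).step (b := 24672) lev1_run257 rfl).step (b := 24768) lev1_run258 rfl).step (b := 24864) lev1_run259 rfl).step (b := 24960) lev1_run260 rfl).step (b := 25056) lev1_run261 rfl).step (b := 25152) lev1_run262 rfl).step (b := 25248) lev1_run263 rfl).step (b := 25344) lev1_run264 rfl).step (b := 25440) lev1_run265 rfl).step (b := 25536)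 lev1_run266 rfl).step (b := 25632) lev1_run267 rfl).step (b := 25728) lev1_run268 rfl).step (b := 25824) lev1_run269 rfl).step (b := 25920) lev1_run270 rfl).step (b := 26016) lev1_run271 rfl).step (b := 26112) lev1_run272 rfl).step (b := 26208) lev1_run273 rfl).step (b := 26304) lev1_run274 rfl).step (b := 26400) lev1_run275 rfl).step (b := 26496) lev1_run276 rfl).step (b := 26592) lev1_run277 rfl).step (b := 26688) lev1_run278 rfl).step (b := 26784) lev1_run279 rfl).step (b := 26880) lev1_run280 rfl).step (b := 26976) lev1_run281 rfl).step (b := 27072) lev1_run282 rfl).step (b := 27168) lev1_run283 rfl).step (b := 27264) lev1_run284 rfl).step (b := 27360) lev1_run285 rfl).step (b := 27456) lev1_run286 rfl).step (b := 27552) lev1_run287 rfl).step (b := 27648) lev1_run288 rfl).step (b := 27744) lev1_run289 rfl).step (b := 27840) lev1_run290 rfl).step (b := 27936) lev1_run291 rfl).step (b := 28032) lev1_run292 rfl).step (b := 28128) lev1_run293 rfl).step (b := 28224) lev1_run294 rfl).step (b := 28320) lev1_run295 rfl).step (b := 28416) lev1_run296 rfl).step (b := 28512)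 lev1_run297 rfl).step (b := 28608) lev1_run298 rfl).step (b := 28704) lev1_run299 rfl).step (b := 28800) lev1_run300 rfl).step (b := 28896) lev1_run301 rfl).step (b := 28992) lev1_run302 rfl).step (b := 29088) lev1_run303 rfl).step (b := 29184) lev1_run304 rfl).step (b := 29280) lev1_run305 rfl).step (b := 29376) lev1_run306 rfl).step (b := 29472) lev1_run307 rfl).step (b := 29568) lev1_run308 rfl).step (b := 29664) lev1_run309 rfl).step (b := 29760) lev1_run310 rfl).step (b := 29856) lev1_run311 rfl).step (b := 29952) lev1_run312 rfl).step (b := 30048) lev1_run313 rfl).step (b := 30144) lev1_run314 rfl).step (b := 30240) lev1_run315 rfl).step (b := 30336) lev1_run316 rfl).step (b := 30432) lev1_run317 rfl).step (b := 30528) lev1_run318 rfl).step (b := 30624) lev1_run319 rfl).step (b := 30720) lev1_run320 rfl).step (b := 30816) lev1_run321 rfl).step (b := 30912) lev1_run322 rfl).step (b := 31008) lev1_run323 rfl).step (b := 31104) lev1_run324 rfl).step (b := 31200) lev1_run325 rfl).step (b := 31296) lev1_run326 rfl).step (b := 31392) lev1_run327 rfl).step (b := 31488)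 lev1_run328 rfl).step (b := 31584) lev1_run329 rfl).step (b := 31671) lev1_run330 rfl

theorem lev2_run1 : rangeAll (lev2.reachOK Fi23m.tab ws2) 96 0 = true := by decide +kernel

theorem lev2_run2 : rangeAll (lev2.reachOK Fi23m.tab ws2) 96 96 = true := by decide +kernel

theorem lev2_run3 : rangeAll (lev2.reachOK Fi23m.tab ws2) 96 192 = true := by decide +kernel

theorem lev2_run4 : rangeAll (lev2.reachOK Fi23m.tab ws2) 96 288 = true := by decide +kernel

theorem lev2_run5 : rangeAll (lev2.reachOK Fi23m.tab ws2) 96 384 = true := by decide +kernel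

theorem lev2_run6 : rangeAll (lev2.reachOK Fi23m.tab ws2) 96 480 = true := by decide +kernel

theorem lev2_run7 : rangeAll (lev2.reachOK Fi23m.tab ws2) 96 576 = true := by decide +kernel

theorem lev2_run8 : rangeAll (lev2.reachOK Fi23m.tab ws2) 96 672 = true := by decide +kernel

theorem lev2_run9 : rangeAll (lev2.reachOK Fi23m.tab ws2) 96 768 = true := by decide +kernel

theorem lev2_run10 : rangeAll (lev2.reachOK Fi23m.tab ws2) 96 864 = true := by decide +kernel

theorem lev2_run11 : rangeAll (lev2.reachOK Fi23m.tab ws2) 96 960 = true := by decide +kernel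

theorem lev2_run12 : rangeAll (lev2.reachOK Fi23m.tab ws2) 96 1056 = true := by decide +kernel

theorem lev2_run13 : rangeAll (lev2.reachOK Fi23m.tab ws2) 96 1152 = true := by decide +kernel

theorem lev2_run14 : rangeAll (lev2.reachOK Fi23m.tab ws2) 96 1248 = true := by decide +kernel

theorem lev2_run15 : rangeAll (lev2.reachOK Fi23m.tab ws2) 96 1344 = true := by decide +kernel

theorem lev2_run16 : rangeAll (lev2.reachOK Fi23m.tab ws2) 96 1440 = true := by decide +kernel

theorem lev2_run17 : rangeAll (lev2.reachOK Fi23m.tab ws2) 96 1536 = true := by decide +kernel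

theorem lev2_run18 : rangeAll (lev2.reachOK Fi23m.tab ws2) 96 1632 = true := by decide +kernel

theorem lev2_run19 : rangeAll (lev2.reachOK Fi23m.tab ws2) 96 1728 = true := by decide +kernel

theorem lev2_run20 : rangeAll (lev2.reachOK Fi23m.tab ws2) 96 1824 = true := by decide +kernel

theorem lev2_run21 : rangeAll (lev2.reachOK Fi23m.tab ws2) 96 1920 = true := by decide +kernel

theorem lev2_run22 : rangeAll (lev2.reachOK Fi23m.tab ws2) 96 2016 = true := by decide +kernel

theorem lev2_run23 : rangeAll (lev2.reachOK Fi23m.tab ws2) 96 2112 = true := by decide +kernel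

theorem lev2_run24 : rangeAll (lev2.reachOK Fi23m.tab ws2) 96 2208 = true := by decide +kernel

theorem lev2_run25 : rangeAll (lev2.reachOK Fi23m.tab ws2) 96 2304 = true := by decide +kernel

theorem lev2_run26 : rangeAll (lev2.reachOK Fi23m.tab ws2) 96 2400 = true := by decide +kernel

theorem lev2_run27 : rangeAll (lev2.reachOK Fi23m.tab ws2) 96 2496 = true := by decide +kernel

theorem lev2_run28 : rangeAll (lev2.reachOK Fi23m.tab ws2) 96 2592 = true := by decide +kernel

theorem lev2_run29 : rangeAll (lev2.reachOK Fi23m.tab ws2) 96 2688 = true := by decide +kernel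

theorem lev2_run30 : rangeAll (lev2.reachOK Fi23m.tab ws2) 96 2784 = true := by decide +kernel

theorem lev2_run31 : rangeAll (lev2.reachOK Fi23m.tab ws2) 96 2880 = true := by decide +kernel

theorem lev2_run32 : rangeAll (lev2.reachOK Fi23m.tab ws2) 96 2976 = true := by decide +kernel

theorem lev2_run33 : rangeAll (lev2.reachOK Fi23m.tab ws2) 96 3072 = true := by decide +kernel

theorem lev2_run34 : rangeAll (lev2.reachOK Fi23m.tab ws2) 96 3168 = true := by decide +kernel

theorem lev2_run35 : rangeAll (lev2.reachOK Fi23m.tab ws2) 96 3264 = true := by decide +kernel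

theorem lev2_run36 : rangeAll (lev2.reachOK Fi23m.tab ws2) 96 3360 = true := by decide +kernel

theorem lev2_run37 : rangeAll (lev2.reachOK Fi23m.tab ws2) 96 3456 = true := by decide +kernel

theorem lev2_run38 : rangeAll (lev2.reachOK Fi23m.tab ws2) 96 3552 = true := by decide +kernel

theorem lev2_run39 : rangeAll (lev2.reachOK Fi23m.tab ws2) 96 3648 = true := by decide +kernel

theorem lev2_run40 : rangeAll (lev2.reachOK Fi23m.tab ws2) 96 3744 = true := by decide +kernel

theorem lev2_run41 : rangeAll (lev2.reachOK Fi23m.tab ws2) 96 3840 = true := by decide +kernel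

theorem lev2_run42 : rangeAll (lev2.reachOK Fi23m.tab ws2) 96 3936 = true := by decide +kernel

theorem lev2_run43 : rangeAll (lev2.reachOK Fi23m.tab ws2) 96 4032 = true := by decide +kernel

theorem lev2_run44 : rangeAll (lev2.reachOK Fi23m.tab ws2) 96 4128 = true := by decide +kernel

theorem lev2_run45 : rangeAll (lev2.reachOK Fi23m.tab ws2) 96 4224 = true := by decide +kernel

theorem lev2_run46 : rangeAll (lev2.reachOK Fi23m.tab ws2) 96 4320 = true := by decide +kernel

theorem lev2_run47 : rangeAll (lev2.reachOK Fi23m.tab ws2) 96 4416 = true := by decide +kernel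

theorem lev2_run48 : rangeAll (lev2.reachOK Fi23m.tab ws2) 96 4512 = true := by decide +kernel

theorem lev2_run49 : rangeAll (lev2.reachOK Fi23m.tab ws2) 96 4608 = true := by decide +kernel

theorem lev2_run50 : rangeAll (lev2.reachOK Fi23m.tab ws2) 96 4704 = true := by decide +kernel

theorem lev2_run51 : rangeAll (lev2.reachOK Fi23m.tab ws2) 96 4800 = true := by decide +kernel

theorem lev2_run52 : rangeAll (lev2.reachOK Fi23m.tab ws2) 96 4896 = true := by decide +kernel

theorem lev2_run53 : rangeAll (lev2.reachOK Fi23m.tab ws2) 96 4992 = true := by decide +kernel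

theorem lev2_run54 : rangeAll (lev2.reachOK Fi23m.tab ws2) 96 5088 = true := by decide +kernel

theorem lev2_run55 : rangeAll (lev2.reachOK Fi23m.tab ws2) 96 5184 = true := by decide +kernel

theorem lev2_run56 : rangeAll (lev2.reachOK Fi23m.tab ws2) 96 5280 = true := by decide +kernel

theorem lev2_run57 : rangeAll (lev2.reachOK Fi23m.tab ws2) 96 5376 = true := by decide +kernel

theorem lev2_run58 : rangeAll (lev2.reachOK Fi23m.tab ws2) 96 5472 = true := by decide +kernel

theorem lev2_run59 : rangeAll (lev2.reachOK Fi23m.tab ws2) 96 5568 = true := by decide +kernel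

theorem lev2_run60 : rangeAll (lev2.reachOK Fi23m.tab ws2) 96 5664 = true := by decide +kernel

theorem lev2_run61 : rangeAll (lev2.reachOK Fi23m.tab ws2) 96 5760 = true := by decide +kernel

theorem lev2_run62 : rangeAll (lev2.reachOK Fi23m.tab ws2) 96 5856 = true := by decide +kernel

theorem lev2_run63 : rangeAll (lev2.reachOK Fi23m.tab ws2) 96 5952 = true := by decide +kernel

theorem lev2_run64 : rangeAll (lev2.reachOK Fi23m.tab ws2) 96 6048 = true := by decide +kernel

theorem lev2_run65 : rangeAll (lev2.reachOK Fi23m.tab ws2) 96 6144 = true := by decide +kernel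

theorem lev2_run66 : rangeAll (lev2.reachOK Fi23m.tab ws2) 96 6240 = true := by decide +kernel

theorem lev2_run67 : rangeAll (lev2.reachOK Fi23m.tab ws2) 96 6336 = true := by decide +kernel

theorem lev2_run68 : rangeAll (lev2.reachOK Fi23m.tab ws2) 96 6432 = true := by decide +kernel

theorem lev2_run69 : rangeAll (lev2.reachOK Fi23m.tab ws2) 96 6528 = true := by decide +kernel

theorem lev2_run70 : rangeAll (lev2.reachOK Fi23m.tab ws2) 96 6624 = true := by decide +kernel

theorem lev2_run71 : rangeAll (lev2.reachOK Fi23m.tab ws2) 96 6720 = true := by decide +kernel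

theorem lev2_run72 : rangeAll (lev2.reachOK Fi23m.tab ws2) 96 6816 = true := by decide +kernel

theorem lev2_run73 : rangeAll (lev2.reachOK Fi23m.tab ws2) 96 6912 = true := by decide +kernel

theorem lev2_run74 : rangeAll (lev2.reachOK Fi23m.tab ws2) 96 7008 = true := by decide +kernel

theorem lev2_run75 : rangeAll (lev2.reachOK Fi23m.tab ws2) 96 7104 = true := by decide +kernel

theorem lev2_run76 : rangeAll (lev2.reachOK Fi23m.tab ws2) 96 7200 = true := by decide +kernel

theorem lev2_run77 : rangeAll (lev2.reachOK Fi23m.tab ws2) 96 7296 = true := by decide +kernel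

theorem lev2_run78 : rangeAll (lev2.reachOK Fi23m.tab ws2) 96 7392 = true := by decide +kernel

theorem lev2_run79 : rangeAll (lev2.reachOK Fi23m.tab ws2) 96 7488 = true := by decide +kernel

theorem lev2_run80 : rangeAll (lev2.reachOK Fi23m.tab ws2) 96 7584 = true := by decide +kernel

theorem lev2_run81 : rangeAll (lev2.reachOK Fi23m.tab ws2) 96 7680 = true := by decide +kernel

theorem lev2_run82 : rangeAll (lev2.reachOK Fi23m.tab ws2) 96 7776 = true := by decide +kernel

theorem lev2_run83 : rangeAll (lev2.reachOK Fi23m.tab ws2) 96 7872 = true := by decide +kernel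

theorem lev2_run84 : rangeAll (lev2.reachOK Fi23m.tab ws2) 96 7968 = true := by decide +kernel

theorem lev2_run85 : rangeAll (lev2.reachOK Fi23m.tab ws2) 96 8064 = true := by decide +kernel

theorem lev2_run86 : rangeAll (lev2.reachOK Fi23m.tab ws2) 96 8160 = true := by decide +kernel

theorem lev2_run87 : rangeAll (lev2.reachOK Fi23m.tab ws2) 96 8256 = true := by decide +kernel

theorem lev2_run88 : rangeAll (lev2.reachOK Fi23m.tab ws2) 96 8352 = true := by decide +kernel

theorem lev2_run89 : rangeAll (lev2.reachOK Fi23m.tab ws2) 96 8448 = true := by decide +kernel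

theorem lev2_run90 : rangeAll (lev2.reachOK Fi23m.tab ws2) 96 8544 = true := by decide +kernel

theorem lev2_run91 : rangeAll (lev2.reachOK Fi23m.tab ws2) 96 8640 = true := by decide +kernel

theorem lev2_run92 : rangeAll (lev2.reachOK Fi23m.tab ws2) 96 8736 = true := by decide +kernel

theorem lev2_run93 : rangeAll (lev2.reachOK Fi23m.tab ws2) 96 8832 = true := by decide +kernel

theorem lev2_run94 : rangeAll (lev2.reachOK Fi23m.tab ws2) 96 8928 = true := by decide +kernel

theorem lev2_run95 : rangeAll (lev2.reachOK Fi23m.tab ws2) 96 9024 = true := by decide +kernel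

theorem lev2_run96 : rangeAll (lev2.reachOK Fi23m.tab ws2) 96 9120 = true := by decide +kernel

theorem lev2_run97 : rangeAll (lev2.reachOK Fi23m.tab ws2) 96 9216 = true := by decide +kernel

theorem lev2_run98 : rangeAll (lev2.reachOK Fi23m.tab ws2) 96 9312 = true := by decide +kernel

theorem lev2_run99 : rangeAll (lev2.reachOK Fi23m.tab ws2) 96 9408 = true := by decide +kernel

theorem lev2_run100 : rangeAll (lev2.reachOK Fi23m.tab ws2) 96 9504 = true := by decide +kernel

theorem lev2_run101 : rangeAll (lev2.reachOK Fi23m.tab ws2) 96 9600 = true := by decide +kernel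

theorem lev2_run102 : rangeAll (lev2.reachOK Fi23m.tab ws2) 96 9696 = true := by decide +kernel

theorem lev2_run103 : rangeAll (lev2.reachOK Fi23m.tab ws2) 96 9792 = true := by decide +kernel

theorem lev2_run104 : rangeAll (lev2.reachOK Fi23m.tab ws2) 96 9888 = true := by decide +kernel

theorem lev2_run105 : rangeAll (lev2.reachOK Fi23m.tab ws2) 96 9984 = true := by decide +kernel

theorem lev2_run106 : rangeAll (lev2.reachOK Fi23m.tab ws2) 96 10080 = true := by decide +kernel

theorem lev2_run107 : rangeAll (lev2.reachOK Fi23m.tab ws2) 96 10176 = true := by decide +kernel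

theorem lev2_run108 : rangeAll (lev2.reachOK Fi23m.tab ws2) 96 10272 = true := by decide +kernel

theorem lev2_run109 : rangeAll (lev2.reachOK Fi23m.tab ws2) 96 10368 = true := by decide +kernel

theorem lev2_run110 : rangeAll (lev2.reachOK Fi23m.tab ws2) 96 10464 = true := by decide +kernel

theorem lev2_run111 : rangeAll (lev2.reachOK Fi23m.tab ws2) 96 10560 = true := by decide +kernel

theorem lev2_run112 : rangeAll (lev2.reachOK Fi23m.tab ws2) 96 10656 = true := by decide +kernel

theorem lev2_run113 : rangeAll (lev2.reachOK Fi23m.tab ws2) 96 10752 = true := by decide +kernel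

theorem lev2_run114 : rangeAll (lev2.reachOK Fi23m.tab ws2) 96 10848 = true := by decide +kernel

theorem lev2_run115 : rangeAll (lev2.reachOK Fi23m.tab ws2) 96 10944 = true := by decide +kernel

theorem lev2_run116 : rangeAll (lev2.reachOK Fi23m.tab ws2) 96 11040 = true := by decide +kernel

theorem lev2_run117 : rangeAll (lev2.reachOK Fi23m.tab ws2) 96 11136 = true := by decide +kernel

theorem lev2_run118 : rangeAll (lev2.reachOK Fi23m.tab ws2) 96 11232 = true := by decide +kernel

theorem lev2_run119 : rangeAll (lev2.reachOK Fi23m.tab ws2) 96 11328 = true := by decide +kernel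

theorem lev2_run120 : rangeAll (lev2.reachOK Fi23m.tab ws2) 96 11424 = true := by decide +kernel

theorem lev2_run121 : rangeAll (lev2.reachOK Fi23m.tab ws2) 96 11520 = true := by decide +kernel

theorem lev2_run122 : rangeAll (lev2.reachOK Fi23m.tab ws2) 96 11616 = true := by decide +kernel

theorem lev2_run123 : rangeAll (lev2.reachOK Fi23m.tab ws2) 96 11712 = true := by decide +kernel

theorem lev2_run124 : rangeAll (lev2.reachOK Fi23m.tab ws2) 96 11808 = true := by decide +kernel

theorem lev2_run125 : rangeAll (lev2.reachOK Fi23m.tab ws2) 96 11904 = true := by decide +kernel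

theorem lev2_run126 : rangeAll (lev2.reachOK Fi23m.tab ws2) 96 12000 = true := by decide +kernel

theorem lev2_run127 : rangeAll (lev2.reachOK Fi23m.tab ws2) 96 12096 = true := by decide +kernel

theorem lev2_run128 : rangeAll (lev2.reachOK Fi23m.tab ws2) 96 12192 = true := by decide +kernel

theorem lev2_run129 : rangeAll (lev2.reachOK Fi23m.tab ws2) 96 12288 = true := by decide +kernel

theorem lev2_run130 : rangeAll (lev2.reachOK Fi23m.tab ws2) 96 12384 = true := by decide +kernel

theorem lev2_run131 : rangeAll (lev2.reachOK Fi23m.tab ws2) 96 12480 = true := by decide +kernel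

theorem lev2_run132 : rangeAll (lev2.reachOK Fi23m.tab ws2) 96 12576 = true := by decide +kernel

theorem lev2_run133 : rangeAll (lev2.reachOK Fi23m.tab ws2) 96 12672 = true := by decide +kernel

theorem lev2_run134 : rangeAll (lev2.reachOK Fi23m.tab ws2) 96 12768 = true := by decide +kernel

theorem lev2_run135 : rangeAll (lev2.reachOK Fi23m.tab ws2) 96 12864 = true := by decide +kernel

theorem lev2_run136 : rangeAll (lev2.reachOK Fi23m.tab ws2) 96 12960 = true := by decide +kernel

theorem lev2_run137 : rangeAll (lev2.reachOK Fi23m.tab ws2) 96 13056 = true := by decide +kernel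

theorem lev2_run138 : rangeAll (lev2.reachOK Fi23m.tab ws2) 96 13152 = true := by decide +kernel

theorem lev2_run139 : rangeAll (lev2.reachOK Fi23m.tab ws2) 96 13248 = true := by decide +kernel

theorem lev2_run140 : rangeAll (lev2.reachOK Fi23m.tab ws2) 96 13344 = true := by decide +kernel

theorem lev2_run141 : rangeAll (lev2.reachOK Fi23m.tab ws2) 96 13440 = true := by decide +kernel

theorem lev2_run142 : rangeAll (lev2.reachOK Fi23m.tab ws2) 96 13536 = true := by decide +kernel

theorem lev2_run143 : rangeAll (lev2.reachOK Fi23m.tab ws2) 96 13632 = true := by decide +kernel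

theorem lev2_run144 : rangeAll (lev2.reachOK Fi23m.tab ws2) 96 13728 = true := by decide +kernel

theorem lev2_run145 : rangeAll (lev2.reachOK Fi23m.tab ws2) 96 13824 = true := by decide +kernel

theorem lev2_run146 : rangeAll (lev2.reachOK Fi23m.tab ws2) 96 13920 = true := by decide +kernel

theorem lev2_run147 : rangeAll (lev2.reachOK Fi23m.tab ws2) 96 14016 = true := by decide +kernel

theorem lev2_run148 : rangeAll (lev2.reachOK Fi23m.tab ws2) 96 14112 = true := by decide +kernel

theorem lev2_run149 : rangeAll (lev2.reachOK Fi23m.tab ws2) 96 14208 = true := by decide +kernel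

theorem lev2_run150 : rangeAll (lev2.reachOK Fi23m.tab ws2) 96 14304 = true := by decide +kernel

theorem lev2_run151 : rangeAll (lev2.reachOK Fi23m.tab ws2) 96 14400 = true := by decide +kernel

theorem lev2_run152 : rangeAll (lev2.reachOK Fi23m.tab ws2) 96 14496 = true := by decide +kernel

theorem lev2_run153 : rangeAll (lev2.reachOK Fi23m.tab ws2) 96 14592 = true := by decide +kernel

theorem lev2_run154 : rangeAll (lev2.reachOK Fi23m.tab ws2) 96 14688 = true := by decide +kernel

theorem lev2_run155 : rangeAll (lev2.reachOK Fi23m.tab ws2) 96 14784 = true := by decide +kernel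

theorem lev2_run156 : rangeAll (lev2.reachOK Fi23m.tab ws2) 96 14880 = true := by decide +kernel

theorem lev2_run157 : rangeAll (lev2.reachOK Fi23m.tab ws2) 96 14976 = true := by decide +kernel

theorem lev2_run158 : rangeAll (lev2.reachOK Fi23m.tab ws2) 96 15072 = true := by decide +kernel

theorem lev2_run159 : rangeAll (lev2.reachOK Fi23m.tab ws2) 96 15168 = true := by decide +kernel

theorem lev2_run160 : rangeAll (lev2.reachOK Fi23m.tab ws2) 96 15264 = true := by decide +kernel

theorem lev2_run161 : rangeAll (lev2.reachOK Fi23m.tab ws2) 96 15360 = true := by decide +kernel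

theorem lev2_run162 : rangeAll (lev2.reachOK Fi23m.tab ws2) 96 15456 = true := by decide +kernel

theorem lev2_run163 : rangeAll (lev2.reachOK Fi23m.tab ws2) 96 15552 = true := by decide +kernel

theorem lev2_run164 : rangeAll (lev2.reachOK Fi23m.tab ws2) 96 15648 = true := by decide +kernel

theorem lev2_run165 : rangeAll (lev2.reachOK Fi23m.tab ws2) 96 15744 = true := by decide +kernel

theorem lev2_run166 : rangeAll (lev2.reachOK Fi23m.tab ws2) 96 15840 = true := by decide +kernel

theorem lev2_run167 : rangeAll (lev2.reachOK Fi23m.tab ws2) 96 15936 = true := by decide +kernel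

theorem lev2_run168 : rangeAll (lev2.reachOK Fi23m.tab ws2) 96 16032 = true := by decide +kernel

theorem lev2_run169 : rangeAll (lev2.reachOK Fi23m.tab ws2) 96 16128 = true := by decide +kernel

theorem lev2_run170 : rangeAll (lev2.reachOK Fi23m.tab ws2) 96 16224 = true := by decide +kernel

theorem lev2_run171 : rangeAll (lev2.reachOK Fi23m.tab ws2) 96 16320 = true := by decide +kernel

theorem lev2_run172 : rangeAll (lev2.reachOK Fi23m.tab ws2) 96 16416 = true := by decide +kernel

theorem lev2_run173 : rangeAll (lev2.reachOK Fi23m.tab ws2) 96 16512 = true := by decide +kernel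

theorem lev2_run174 : rangeAll (lev2.reachOK Fi23m.tab ws2) 96 16608 = true := by decide +kernel

theorem lev2_run175 : rangeAll (lev2.reachOK Fi23m.tab ws2) 96 16704 = true := by decide +kernel

theorem lev2_run176 : rangeAll (lev2.reachOK Fi23m.tab ws2) 96 16800 = true := by decide +kernel

theorem lev2_run177 : rangeAll (lev2.reachOK Fi23m.tab ws2) 96 16896 = true := by decide +kernel

theorem lev2_run178 : rangeAll (lev2.reachOK Fi23m.tab ws2) 96 16992 = true := by decide +kernel

theorem lev2_run179 : rangeAll (lev2.reachOK Fi23m.tab ws2) 96 17088 = true := by decide +kernel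

theorem lev2_run180 : rangeAll (lev2.reachOK Fi23m.tab ws2) 96 17184 = true := by decide +kernel

theorem lev2_run181 : rangeAll (lev2.reachOK Fi23m.tab ws2) 96 17280 = true := by decide +kernel

theorem lev2_run182 : rangeAll (lev2.reachOK Fi23m.tab ws2) 96 17376 = true := by decide +kernel

theorem lev2_run183 : rangeAll (lev2.reachOK Fi23m.tab ws2) 96 17472 = true := by decide +kernel

theorem lev2_run184 : rangeAll (lev2.reachOK Fi23m.tab ws2) 96 17568 = true := by decide +kernel

theorem lev2_run185 : rangeAll (lev2.reachOK Fi23m.tab ws2) 96 17664 = true := by decide +kernel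

theorem lev2_run186 : rangeAll (lev2.reachOK Fi23m.tab ws2) 96 17760 = true := by decide +kernel

theorem lev2_run187 : rangeAll (lev2.reachOK Fi23m.tab ws2) 96 17856 = true := by decide +kernel

theorem lev2_run188 : rangeAll (lev2.reachOK Fi23m.tab ws2) 96 17952 = true := by decide +kernel

theorem lev2_run189 : rangeAll (lev2.reachOK Fi23m.tab ws2) 96 18048 = true := by decide +kernel

theorem lev2_run190 : rangeAll (lev2.reachOK Fi23m.tab ws2) 96 18144 = true := by decide +kernel

theorem lev2_run191 : rangeAll (lev2.reachOK Fi23m.tab ws2) 96 18240 = true := by decide +kernel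

theorem lev2_run192 : rangeAll (lev2.reachOK Fi23m.tab ws2) 96 18336 = true := by decide +kernel

theorem lev2_run193 : rangeAll (lev2.reachOK Fi23m.tab ws2) 96 18432 = true := by decide +kernel

theorem lev2_run194 : rangeAll (lev2.reachOK Fi23m.tab ws2) 96 18528 = true := by decide +kernel

theorem lev2_run195 : rangeAll (lev2.reachOK Fi23m.tab ws2) 96 18624 = true := by decide +kernel

theorem lev2_run196 : rangeAll (lev2.reachOK Fi23m.tab ws2) 96 18720 = true := by decide +kernel

theorem lev2_run197 : rangeAll (lev2.reachOK Fi23m.tab ws2) 96 18816 = true := by decide +kernel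

theorem lev2_run198 : rangeAll (lev2.reachOK Fi23m.tab ws2) 96 18912 = true := by decide +kernel

theorem lev2_run199 : rangeAll (lev2.reachOK Fi23m.tab ws2) 96 19008 = true := by decide +kernel

theorem lev2_run200 : rangeAll (lev2.reachOK Fi23m.tab ws2) 96 19104 = true := by decide +kernel

theorem lev2_run201 : rangeAll (lev2.reachOK Fi23m.tab ws2) 96 19200 = true := by decide +kernel

theorem lev2_run202 : rangeAll (lev2.reachOK Fi23m.tab ws2) 96 19296 = true := by decide +kernel

theorem lev2_run203 : rangeAll (lev2.reachOK Fi23m.tab ws2) 96 19392 = true := by decide +kernel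

theorem lev2_run204 : rangeAll (lev2.reachOK Fi23m.tab ws2) 96 19488 = true := by decide +kernel

theorem lev2_run205 : rangeAll (lev2.reachOK Fi23m.tab ws2) 96 19584 = true := by decide +kernel

theorem lev2_run206 : rangeAll (lev2.reachOK Fi23m.tab ws2) 96 19680 = true := by decide +kernel

theorem lev2_run207 : rangeAll (lev2.reachOK Fi23m.tab ws2) 96 19776 = true := by decide +kernel

theorem lev2_run208 : rangeAll (lev2.reachOK Fi23m.tab ws2) 96 19872 = true := by decide +kernel

theorem lev2_run209 : rangeAll (lev2.reachOK Fi23m.tab ws2) 96 19968 = true := by decide +kernel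

theorem lev2_run210 : rangeAll (lev2.reachOK Fi23m.tab ws2) 96 20064 = true := by decide +kernel

theorem lev2_run211 : rangeAll (lev2.reachOK Fi23m.tab ws2) 96 20160 = true := by decide +kernel

theorem lev2_run212 : rangeAll (lev2.reachOK Fi23m.tab ws2) 96 20256 = true := by decide +kernel

theorem lev2_run213 : rangeAll (lev2.reachOK Fi23m.tab ws2) 96 20352 = true := by decide +kernel

theorem lev2_run214 : rangeAll (lev2.reachOK Fi23m.tab ws2) 96 20448 = true := by decide +kernel

theorem lev2_run215 : rangeAll (lev2.reachOK Fi23m.tab ws2) 96 20544 = true := by decide +kernel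

theorem lev2_run216 : rangeAll (lev2.reachOK Fi23m.tab ws2) 96 20640 = true := by decide +kernel

theorem lev2_run217 : rangeAll (lev2.reachOK Fi23m.tab ws2) 96 20736 = true := by decide +kernel

theorem lev2_run218 : rangeAll (lev2.reachOK Fi23m.tab ws2) 96 20832 = true := by decide +kernel

theorem lev2_run219 : rangeAll (lev2.reachOK Fi23m.tab ws2) 96 20928 = true := by decide +kernel

theorem lev2_run220 : rangeAll (lev2.reachOK Fi23m.tab ws2) 96 21024 = true := by decide +kernel

theorem lev2_run221 : rangeAll (lev2.reachOK Fi23m.tab ws2) 96 21120 = true := by decide +kernel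

theorem lev2_run222 : rangeAll (lev2.reachOK Fi23m.tab ws2) 96 21216 = true := by decide +kernel

theorem lev2_run223 : rangeAll (lev2.reachOK Fi23m.tab ws2) 96 21312 = true := by decide +kernel

theorem lev2_run224 : rangeAll (lev2.reachOK Fi23m.tab ws2) 96 21408 = true := by decide +kernel

theorem lev2_run225 : rangeAll (lev2.reachOK Fi23m.tab ws2) 96 21504 = true := by decide +kernel

theorem lev2_run226 : rangeAll (lev2.reachOK Fi23m.tab ws2) 96 21600 = true := by decide +kernel

theorem lev2_run227 : rangeAll (lev2.reachOK Fi23m.tab ws2) 96 21696 = true := by decide +kernel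

theorem lev2_run228 : rangeAll (lev2.reachOK Fi23m.tab ws2) 96 21792 = true := by decide +kernel

theorem lev2_run229 : rangeAll (lev2.reachOK Fi23m.tab ws2) 96 21888 = true := by decide +kernel

theorem lev2_run230 : rangeAll (lev2.reachOK Fi23m.tab ws2) 96 21984 = true := by decide +kernel

theorem lev2_run231 : rangeAll (lev2.reachOK Fi23m.tab ws2) 96 22080 = true := by decide +kernel

theorem lev2_run232 : rangeAll (lev2.reachOK Fi23m.tab ws2) 96 22176 = true := by decide +kernel

theorem lev2_run233 : rangeAll (lev2.reachOK Fi23m.tab ws2) 96 22272 = true := by decide +kernel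

theorem lev2_run234 : rangeAll (lev2.reachOK Fi23m.tab ws2) 96 22368 = true := by decide +kernel

theorem lev2_run235 : rangeAll (lev2.reachOK Fi23m.tab ws2) 96 22464 = true := by decide +kernel

theorem lev2_run236 : rangeAll (lev2.reachOK Fi23m.tab ws2) 96 22560 = true := by decide +kernel

theorem lev2_run237 : rangeAll (lev2.reachOK Fi23m.tab ws2) 96 22656 = true := by decide +kernel

theorem lev2_run238 : rangeAll (lev2.reachOK Fi23m.tab ws2) 96 22752 = true := by decide +kernel

theorem lev2_run239 : rangeAll (lev2.reachOK Fi23m.tab ws2) 96 22848 = true := by decide +kernel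

theorem lev2_run240 : rangeAll (lev2.reachOK Fi23m.tab ws2) 96 22944 = true := by decide +kernel

theorem lev2_run241 : rangeAll (lev2.reachOK Fi23m.tab ws2) 96 23040 = true := by decide +kernel

theorem lev2_run242 : rangeAll (lev2.reachOK Fi23m.tab ws2) 96 23136 = true := by decide +kernel

theorem lev2_run243 : rangeAll (lev2.reachOK Fi23m.tab ws2) 96 23232 = true := by decide +kernel

theorem lev2_run244 : rangeAll (lev2.reachOK Fi23m.tab ws2) 96 23328 = true := by decide +kernel

theorem lev2_run245 : rangeAll (lev2.reachOK Fi23m.tab ws2) 96 23424 = true := by decide +kernel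

theorem lev2_run246 : rangeAll (lev2.reachOK Fi23m.tab ws2) 96 23520 = true := by decide +kernel

theorem lev2_run247 : rangeAll (lev2.reachOK Fi23m.tab ws2) 96 23616 = true := by decide +kernel

theorem lev2_run248 : rangeAll (lev2.reachOK Fi23m.tab ws2) 96 23712 = true := by decide +kernel

theorem lev2_run249 : rangeAll (lev2.reachOK Fi23m.tab ws2) 96 23808 = true := by decide +kernel

theorem lev2_run250 : rangeAll (lev2.reachOK Fi23m.tab ws2) 96 23904 = true := by decide +kernel

theorem lev2_run251 : rangeAll (lev2.reachOK Fi23m.tab ws2) 96 24000 = true := by decide +kernel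

theorem lev2_run252 : rangeAll (lev2.reachOK Fi23m.tab ws2) 96 24096 = true := by decide +kernel

theorem lev2_run253 : rangeAll (lev2.reachOK Fi23m.tab ws2) 96 24192 = true := by decide +kernel

theorem lev2_run254 : rangeAll (lev2.reachOK Fi23m.tab ws2) 96 24288 = true := by decide +kernel

theorem lev2_run255 : rangeAll (lev2.reachOK Fi23m.tab ws2) 96 24384 = true := by decide +kernel

theorem lev2_run256 : rangeAll (lev2.reachOK Fi23m.tab ws2) 96 24480 = true := by decide +kernel

theorem lev2_run257 : rangeAll (lev2.reachOK Fi23m.tab ws2) 96 24576 = true := by decide +kernel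

theorem lev2_run258 : rangeAll (lev2.reachOK Fi23m.tab ws2) 96 24672 = true := by decide +kernel

theorem lev2_run259 : rangeAll (lev2.reachOK Fi23m.tab ws2) 96 24768 = true := by decide +kernel

theorem lev2_run260 : rangeAll (lev2.reachOK Fi23m.tab ws2) 96 24864 = true := by decide +kernel

theorem lev2_run261 : rangeAll (lev2.reachOK Fi23m.tab ws2) 96 24960 = true := by decide +kernel

theorem lev2_run262 : rangeAll (lev2.reachOK Fi23m.tab ws2) 96 25056 = true := by decide +kernel

theorem lev2_run263 : rangeAll (lev2.reachOK Fi23m.tab ws2) 96 25152 = true := by decide +kernel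

theorem lev2_run264 : rangeAll (lev2.reachOK Fi23m.tab ws2) 96 25248 = true := by decide +kernel

theorem lev2_run265 : rangeAll (lev2.reachOK Fi23m.tab ws2) 96 25344 = true := by decide +kernel

theorem lev2_run266 : rangeAll (lev2.reachOK Fi23m.tab ws2) 96 25440 = true := by decide +kernel

theorem lev2_run267 : rangeAll (lev2.reachOK Fi23m.tab ws2) 96 25536 = true := by decide +kernel

theorem lev2_run268 : rangeAll (lev2.reachOK Fi23m.tab ws2) 96 25632 = true := by decide +kernel

theorem lev2_run269 : rangeAll (lev2.reachOK Fi23m.tab ws2) 96 25728 = true := by decide +kernel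

theorem lev2_run270 : rangeAll (lev2.reachOK Fi23m.tab ws2) 96 25824 = true := by decide +kernel

theorem lev2_run271 : rangeAll (lev2.reachOK Fi23m.tab ws2) 96 25920 = true := by decide +kernel

theorem lev2_run272 : rangeAll (lev2.reachOK Fi23m.tab ws2) 96 26016 = true := by decide +kernel

theorem lev2_run273 : rangeAll (lev2.reachOK Fi23m.tab ws2) 96 26112 = true := by decide +kernel

theorem lev2_run274 : rangeAll (lev2.reachOK Fi23m.tab ws2) 96 26208 = true := by decide +kernel

theorem lev2_run275 : rangeAll (lev2.reachOK Fi23m.tab ws2) 96 26304 = true := by decide +kernel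

theorem lev2_run276 : rangeAll (lev2.reachOK Fi23m.tab ws2) 96 26400 = true := by decide +kernel

theorem lev2_run277 : rangeAll (lev2.reachOK Fi23m.tab ws2) 96 26496 = true := by decide +kernel

theorem lev2_run278 : rangeAll (lev2.reachOK Fi23m.tab ws2) 96 26592 = true := by decide +kernel

theorem lev2_run279 : rangeAll (lev2.reachOK Fi23m.tab ws2) 96 26688 = true := by decide +kernel

theorem lev2_run280 : rangeAll (lev2.reachOK Fi23m.tab ws2) 96 26784 = true := by decide +kernel

theorem lev2_run281 : rangeAll (lev2.reachOK Fi23m.tab ws2) 96 26880 = true := by decide +kernel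

theorem lev2_run282 : rangeAll (lev2.reachOK Fi23m.tab ws2) 96 26976 = true := by decide +kernel

theorem lev2_run283 : rangeAll (lev2.reachOK Fi23m.tab ws2) 96 27072 = true := by decide +kernel

theorem lev2_run284 : rangeAll (lev2.reachOK Fi23m.tab ws2) 96 27168 = true := by decide +kernel

theorem lev2_run285 : rangeAll (lev2.reachOK Fi23m.tab ws2) 96 27264 = true := by decide +kernel

theorem lev2_run286 : rangeAll (lev2.reachOK Fi23m.tab ws2) 96 27360 = true := by decide +kernel

theorem lev2_run287 : rangeAll (lev2.reachOK Fi23m.tab ws2) 96 27456 = true := by decide +kernel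

theorem lev2_run288 : rangeAll (lev2.reachOK Fi23m.tab ws2) 96 27552 = true := by decide +kernel

theorem lev2_run289 : rangeAll (lev2.reachOK Fi23m.tab ws2) 96 27648 = true := by decide +kernel

theorem lev2_run290 : rangeAll (lev2.reachOK Fi23m.tab ws2) 96 27744 = true := by decide +kernel

theorem lev2_run291 : rangeAll (lev2.reachOK Fi23m.tab ws2) 96 27840 = true := by decide +kernel

theorem lev2_run292 : rangeAll (lev2.reachOK Fi23m.tab ws2) 96 27936 = true := by decide +kernel

theorem lev2_run293 : rangeAll (lev2.reachOK Fi23m.tab ws2) 96 28032 = true := by decide +kernel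

theorem lev2_run294 : rangeAll (lev2.reachOK Fi23m.tab ws2) 32 28128 = true := by decide +kernel

theorem lev2_ok : Below (lev2.reachOK Fi23m.tab ws2) lev2.m :=
  ((((((((((((((((((((((((((((((((((((((((((((((((((((((((((((((((((((((((((((((((((((((((((((((((((((((((((((((((((((((((((((((((((((((((((((((((((((((((((((((((((((((((((((((((((((((((((((((((((((((((((((((((((((((((((((((((((((((((((((((((((((((((((((((((((((((((((((((((((((((((((((((((((((((Below.zero _).step (b := 96) lev2_run1 rfl).step (b := 192) lev2_run2 rfl).step (b := 288) lev2_run3 rfl).step (b := 384) lev2_run4 rfl).step (b := 480) lev2_run5 rfl).step (b := 576) lev2_run6 rfl).step (b := 672) lev2_run7 rfl).step (b := 768) lev2_run8 rfl).step (b := 864) lev2_run9 rfl).step (b := 960) lev2_run10 rfl).step (b := 1056) lev2_run11 rfl).step (b := 1152) lev2_run12 rfl).step (b := 1248) lev2_run13 rfl).step (b := 1344) lev2_run14 rfl).step (b := 1440) lev2_run15 rfl).step (b := 1536) lev2_run16 rfl).step (b := 1632) lev2_run17 rfl).step (b := 1728) lev2_run18 rfl).step (b := 1824) lev2_run19 rfl).step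 (b := 1920) lev2_run20 rfl).step (b := 2016) lev2_run21 rfl).step (b := 2112) lev2_run22 rfl).step (b := 2208) lev2_run23 rfl).step (b := 2304) lev2_run24 rfl).step (b := 2400) lev2_run25 rfl).step (b := 2496) lev2_run26 rfl).step (b := 2592) lev2_run27 rfl).step (b := 2688) lev2_run28 rfl).step (b := 2784) lev2_run29 rfl).step (b := 2880) lev2_run30 rfl).step (b := 2976) lev2_run31 rfl).step (b := 3072) lev2_run32 rfl).step (b := 3168) lev2_run33 rfl).step (b := 3264) lev2_run34 rfl).step (b := 3360) lev2_run35 rfl).step (b := 3456) lev2_run36 rfl).step (b := 3552) lev2_run37 rfl).step (b := 3648) lev2_run38 rfl).step (b := 3744) lev2_run39 rfl).step (b := 3840) lev2_run40 rfl).step (b := 3936) lev2_run41 rfl).step (b := 4032) lev2_run42 rfl).step (b := 4128) lev2_run43 rfl).step (b := 4224) lev2_run44 rfl).step (b := 4320) lev2_run45 rfl).step (b := 4416) lev2_run46 rfl).step (b := 4512) lev2_run47 rfl).step (b := 4608) lev2_run48 rfl).step (b := 4704) lev2_run49 rfl).step (b := 4800) lev2_run50 rfl).step (b := 4896) lev2_run51 rfl).step (b := 4992) lev2_run52 rfl).step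 (b := 5088) lev2_run53 rfl).step (b := 5184) lev2_run54 rfl).step (b := 5280) lev2_run55 rfl).step (b := 5376) lev2_run56 rfl).step (b := 5472) lev2_run57 rfl).step (b := 5568) lev2_run58 rfl).step (b := 5664) lev2_run59 rfl).step (b := 5760) lev2_run60 rfl).step (b := 5856) lev2_run61 rfl).step (b := 5952) lev2_run62 rfl).step (b := 6048) lev2_run63 rfl).step (b := 6144) lev2_run64 rfl).step (b := 6240) lev2_run65 rfl).step (b := 6336) lev2_run66 rfl).step (b := 6432) lev2_run67 rfl).step (b := 6528) lev2_run68 rfl).step (b := 6624) lev2_run69 rfl).step (b := 6720) lev2_run70 rfl).step (b := 6816) lev2_run71 rfl).step (b := 6912) lev2_run72 rfl).step (b := 7008) lev2_run73 rfl).step (b := 7104) lev2_run74 rfl).step (b := 7200) lev2_run75 rfl).step (b := 7296) lev2_run76 rfl).step (b := 7392) lev2_run77 rfl).step (b := 7488) lev2_run78 rfl).step (b := 7584) lev2_run79 rfl).step (b := 7680) lev2_run80 rfl).step (b := 7776) lev2_run81 rfl).step (b := 7872) lev2_run82 rfl).step (b := 7968) lev2_run83 rfl).step (b := 8064) lev2_run84 rfl).step (b := 8160) lev2_run85 rfl).step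 (b := 8256) lev2_run86 rfl).step (b := 8352) lev2_run87 rfl).step (b := 8448) lev2_run88 rfl).step (b := 8544) lev2_run89 rfl).step (b := 8640) lev2_run90 rfl).step (b := 8736) lev2_run91 rfl).step (b := 8832) lev2_run92 rfl).step (b := 8928) lev2_run93 rfl).step (b := 9024) lev2_run94 rfl).step (b := 9120) lev2_run95 rfl).step (b := 9216) lev2_run96 rfl).step (b := 9312) lev2_run97 rfl).step (b := 9408) lev2_run98 rfl).step (b := 9504) lev2_run99 rfl).step (b := 9600) lev2_run100 rfl).step (b := 9696) lev2_run101 rfl).step (b := 9792) lev2_run102 rfl).step (b := 9888) lev2_run103 rfl).step (b := 9984) lev2_run104 rfl).step (b := 10080) lev2_run105 rfl).step (b := 10176) lev2_run106 rfl).step (b := 10272) lev2_run107 rfl).step (b := 10368) lev2_run108 rfl).step (b := 10464) lev2_run109 rfl).step (b := 10560) lev2_run110 rfl).step (b := 10656) lev2_run111 rfl).step (b := 10752) lev2_run112 rfl).step (b := 10848) lev2_run113 rfl).step (b := 10944) lev2_run114 rfl).step (b := 11040) lev2_run115 rfl).step (b := 11136) lev2_run116 rfl).step (b := 11232) lev2_run117 rfl).step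 (b := 11328) lev2_run118 rfl).step (b := 11424) lev2_run119 rfl).step (b := 11520) lev2_run120 rfl).step (b := 11616) lev2_run121 rfl).step (b := 11712) lev2_run122 rfl).step (b := 11808) lev2_run123 rfl).step (b := 11904) lev2_run124 rfl).step (b := 12000) lev2_run125 rfl).step (b := 12096) lev2_run126 rfl).step (b := 12192) lev2_run127 rfl).step (b := 12288) lev2_run128 rfl).step (b := 12384) lev2_run129 rfl).step (b := 12480) lev2_run130 rfl).step (b := 12576) lev2_run131 rfl).step (b := 12672) lev2_run132 rfl).step (b := 12768) lev2_run133 rfl).step (b := 12864) lev2_run134 rfl).step (b := 12960) lev2_run135 rfl).step (b := 13056) lev2_run136 rfl).step (b := 13152) lev2_run137 rfl).step (b := 13248) lev2_run138 rfl).step (b := 13344) lev2_run139 rfl).step (b := 13440) lev2_run140 rfl).step (b := 13536) lev2_run141 rfl).step (b := 13632) lev2_run142 rfl).step (b := 13728) lev2_run143 rfl).step (b := 13824) lev2_run144 rfl).step (b := 13920) lev2_run145 rfl).step (b := 14016) lev2_run146 rfl).step (b := 14112) lev2_run147 rfl).step (b := 14208) lev2_run148 rfl).step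 (b := 14304) lev2_run149 rfl).step (b := 14400) lev2_run150 rfl).step (b := 14496) lev2_run151 rfl).step (b := 14592) lev2_run152 rfl).step (b := 14688) lev2_run153 rfl).step (b := 14784) lev2_run154 rfl).step (b := 14880) lev2_run155 rfl).step (b := 14976) lev2_run156 rfl).step (b := 15072) lev2_run157 rfl).step (b := 15168) lev2_run158 rfl).step (b := 15264) lev2_run159 rfl).step (b := 15360) lev2_run160 rfl).step (b := 15456) lev2_run161 rfl).step (b := 15552) lev2_run162 rfl).step (b := 15648) lev2_run163 rfl).step (b := 15744) lev2_run164 rfl).step (b := 15840) lev2_run165 rfl).step (b := 15936) lev2_run166 rfl).step (b := 16032) lev2_run167 rfl).step (b := 16128) lev2_run168 rfl).step (b := 16224) lev2_run169 rfl).step (b := 16320) lev2_run170 rfl).step (b := 16416) lev2_run171 rfl).step (b := 16512) lev2_run172 rfl).step (b := 16608) lev2_run173 rfl).step (b := 16704) lev2_run174 rfl).step (b := 16800) lev2_run175 rfl).step (b := 16896) lev2_run176 rfl).step (b := 16992) lev2_run177 rfl).step (b := 17088) lev2_run178 rfl).step (b := 17184) lev2_run179 rfl).step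 (b := 17280) lev2_run180 rfl).step (b := 17376) lev2_run181 rfl).step (b := 17472) lev2_run182 rfl).step (b := 17568) lev2_run183 rfl).step (b := 17664) lev2_run184 rfl).step (b := 17760) lev2_run185 rfl).step (b := 17856) lev2_run186 rfl).step (b := 17952) lev2_run187 rfl).step (b := 18048) lev2_run188 rfl).step (b := 18144) lev2_run189 rfl).step (b := 18240) lev2_run190 rfl).step (b := 18336) lev2_run191 rfl).step (b := 18432) lev2_run192 rfl).step (b := 18528) lev2_run193 rfl).step (b := 18624) lev2_run194 rfl).step (b := 18720) lev2_run195 rfl).step (b := 18816) lev2_run196 rfl).step (b := 18912) lev2_run197 rfl).step (b := 19008) lev2_run198 rfl).step (b := 19104) lev2_run199 rfl).step (b := 19200) lev2_run200 rfl).step (b := 19296) lev2_run201 rfl).step (b := 19392) lev2_run202 rfl).step (b := 19488) lev2_run203 rfl).step (b := 19584) lev2_run204 rfl).step (b := 19680) lev2_run205 rfl).step (b := 19776) lev2_run206 rfl).step (b := 19872) lev2_run207 rfl).step (b := 19968) lev2_run208 rfl).step (b := 20064) lev2_run209 rfl).step (b := 20160) lev2_run210 rfl).step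 (b := 20256) lev2_run211 rfl).step (b := 20352) lev2_run212 rfl).step (b := 20448) lev2_run213 rfl).step (b := 20544) lev2_run214 rfl).step (b := 20640) lev2_run215 rfl).step (b := 20736) lev2_run216 rfl).step (b := 20832) lev2_run217 rfl).step (b := 20928) lev2_run218 rfl).step (b := 21024) lev2_run219 rfl).step (b := 21120) lev2_run220 rfl).step (b := 21216) lev2_run221 rfl).step (b := 21312) lev2_run222 rfl).step (b := 21408) lev2_run223 rfl).step (b := 21504) lev2_run224 rfl).step (b := 21600) lev2_run225 rfl).step (b := 21696) lev2_run226 rfl).step (b := 21792) lev2_run227 rfl).step (b := 21888) lev2_run228 rfl).step (b := 21984) lev2_run229 rfl).step (b := 22080) lev2_run230 rfl).step (b := 22176) lev2_run231 rfl).step (b := 22272) lev2_run232 rfl).step (b := 22368) lev2_run233 rfl).step (b := 22464) lev2_run234 rfl).step (b := 22560) lev2_run235 rfl).step (b := 22656) lev2_run236 rfl).step (b := 22752) lev2_run237 rfl).step (b := 22848) lev2_run238 rfl).step (b := 22944) lev2_run239 rfl).step (b := 23040) lev2_run240 rfl).step (b := 23136) lev2_run241 rfl).step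 (b := 23232) lev2_run242 rfl).step (b := 23328) lev2_run243 rfl).step (b := 23424) lev2_run244 rfl).step (b := 23520) lev2_run245 rfl).step (b := 23616) lev2_run246 rfl).step (b := 23712) lev2_run247 rfl).step (b := 23808) lev2_run248 rfl).step (b := 23904) lev2_run249 rfl).step (b := 24000) lev2_run250 rfl).step (b := 24096) lev2_run251 rfl).step (b := 24192) lev2_run252 rfl).step (b := 24288) lev2_run253 rfl).step (b := 24384) lev2_run254 rfl).step (b := 24480) lev2_run255 rfl).step (b := 24576) lev2_run256 rfl).step (b := 24672) lev2_run257 rfl).step (b := 24768) lev2_run258 rfl).step (b := 24864) lev2_run259 rfl).step (b := 24960) lev2_run260 rfl).step (b := 25056) lev2_run261 rfl).step (b := 25152) lev2_run262 rfl).step (b := 25248) lev2_run263 rfl).step (b := 25344) lev2_run264 rfl).step (b := 25440) lev2_run265 rfl).step (b := 25536) lev2_run266 rfl).step (b := 25632) lev2_run267 rfl).step (b := 25728) lev2_run268 rfl).step (b := 25824) lev2_run269 rfl).step (b := 25920) lev2_run270 rfl).step (b := 26016) lev2_run271 rfl).step (b := 26112) lev2_run272 rfl).step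 (b := 26208) lev2_run273 rfl).step (b := 26304) lev2_run274 rfl).step (b := 26400) lev2_run275 rfl).step (b := 26496) lev2_run276 rfl).step (b := 26592) lev2_run277 rfl).step (b := 26688) lev2_run278 rfl).step (b := 26784) lev2_run279 rfl).step (b := 26880) lev2_run280 rfl).step (b := 26976) lev2_run281 rfl).step (b := 27072) lev2_run282 rfl).step (b := 27168) lev2_run283 rfl).step (b := 27264) lev2_run284 rfl).step (b := 27360) lev2_run285 rfl).step (b := 27456) lev2_run286 rfl).step (b := 27552) lev2_run287 rfl).step (b := 27648) lev2_run288 rfl).step (b := 27744) lev2_run289 rfl).step (b := 27840) lev2_run290 rfl).step (b := 27936) lev2_run291 rfl).step (b := 28032) lev2_run292 rfl).step (b := 28128) lev2_run293 rfl).step (b := 28160) lev2_run294 rfl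

theorem lev3_run1 : rangeAll (lev3.reachOK Fi23m.tab ws3) 96 0 = true := by decide +kernel

theorem lev3_run2 : rangeAll (lev3.reachOK Fi23m.tab ws3) 96 96 = true := by decide +kernel

theorem lev3_run3 : rangeAll (lev3.reachOK Fi23m.tab ws3) 96 192 = true := by decide +kernel

theorem lev3_run4 : rangeAll (lev3.reachOK Fi23m.tab ws3) 96 288 = true := by decide +kernel

theorem lev3_run5 : rangeAll (lev3.reachOK Fi23m.tab ws3) 96 384 = true := by decide +kernel

theorem lev3_run6 : rangeAll (lev3.reachOK Fi23m.tab ws3) 96 480 = true := by decide +kernel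

theorem lev3_run7 : rangeAll (lev3.reachOK Fi23m.tab ws3) 96 576 = true := by decide +kernel

theorem lev3_run8 : rangeAll (lev3.reachOK Fi23m.tab ws3) 96 672 = true := by decide +kernel

theorem lev3_run9 : rangeAll (lev3.reachOK Fi23m.tab ws3) 96 768 = true := by decide +kernel

theorem lev3_run10 : rangeAll (lev3.reachOK Fi23m.tab ws3) 96 864 = true := by decide +kernel

theorem lev3_run11 : rangeAll (lev3.reachOK Fi23m.tab ws3) 96 960 = true := by decide +kernel

theorem lev3_run12 : rangeAll (lev3.reachOK Fi23m.tab ws3) 96 1056 = true := by decide +kernel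

theorem lev3_run13 : rangeAll (lev3.reachOK Fi23m.tab ws3) 96 1152 = true := by decide +kernel

theorem lev3_run14 : rangeAll (lev3.reachOK Fi23m.tab ws3) 96 1248 = true := by decide +kernel

theorem lev3_run15 : rangeAll (lev3.reachOK Fi23m.tab ws3) 96 1344 = true := by decide +kernel

theorem lev3_run16 : rangeAll (lev3.reachOK Fi23m.tab ws3) 96 1440 = true := by decide +kernel

theorem lev3_run17 : rangeAll (lev3.reachOK Fi23m.tab ws3) 96 1536 = true := by decide +kernel

theorem lev3_run18 : rangeAll (lev3.reachOK Fi23m.tab ws3) 96 1632 = true := by decide +kernel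

theorem lev3_run19 : rangeAll (lev3.reachOK Fi23m.tab ws3) 96 1728 = true := by decide +kernel

theorem lev3_run20 : rangeAll (lev3.reachOK Fi23m.tab ws3) 96 1824 = true := by decide +kernel

theorem lev3_run21 : rangeAll (lev3.reachOK Fi23m.tab ws3) 96 1920 = true := by decide +kernel

theorem lev3_run22 : rangeAll (lev3.reachOK Fi23m.tab ws3) 96 2016 = true := by decide +kernel

theorem lev3_run23 : rangeAll (lev3.reachOK Fi23m.tab ws3) 96 2112 = true := by decide +kernel

theorem lev3_run24 : rangeAll (lev3.reachOK Fi23m.tab ws3) 96 2208 = true := by decide +kernel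

theorem lev3_run25 : rangeAll (lev3.reachOK Fi23m.tab ws3) 96 2304 = true := by decide +kernel

theorem lev3_run26 : rangeAll (lev3.reachOK Fi23m.tab ws3) 96 2400 = true := by decide +kernel

theorem lev3_run27 : rangeAll (lev3.reachOK Fi23m.tab ws3) 96 2496 = true := by decide +kernel

theorem lev3_run28 : rangeAll (lev3.reachOK Fi23m.tab ws3) 96 2592 = true := by decide +kernel

theorem lev3_run29 : rangeAll (lev3.reachOK Fi23m.tab ws3) 96 2688 = true := by decide +kernel

theorem lev3_run30 : rangeAll (lev3.reachOK Fi23m.tab ws3) 96 2784 = true := by decide +kernel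

theorem lev3_run31 : rangeAll (lev3.reachOK Fi23m.tab ws3) 96 2880 = true := by decide +kernel

theorem lev3_run32 : rangeAll (lev3.reachOK Fi23m.tab ws3) 96 2976 = true := by decide +kernel

theorem lev3_run33 : rangeAll (lev3.reachOK Fi23m.tab ws3) 87 3072 = true := by decide +kernel

theorem lev3_ok : Below (lev3.reachOK Fi23m.tab ws3) lev3.m :=
  (((((((((((((((((((((((((((((((((Below.zero _).step (b := 96) lev3_run1 rfl).step (b := 192) lev3_run2 rfl).step (b := 288) lev3_run3 rfl).step (b := 384) lev3_run4 rfl).step (b := 480) lev3_run5 rfl).step (b := 576) lev3_run6 rfl).step (b := 672) lev3_run7 rfl).step (b := 768) lev3_run8 rfl).step (b := 864) lev3_run9 rfl).step (b := 960) lev3_run10 rfl).step (b := 1056) lev3_run11 rfl).step (b := 1152) lev3_run12 rfl).step (b := 1248) lev3_run13 rfl).step (b := 1344) lev3_run14 rfl).step (b := 1440) lev3_run15 rfl).step (b := 1536) lev3_run16 rfl).step (b := 1632) lev3_run17 rfl).step (b := 1728) lev3_run18 rfl).step (b := 1824) lev3_run19 rfl).step (b := 1920) lev3_run20 rfl).step (b := 2016) lev3_run21 rfl).step (b :=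 2112) lev3_run22 rfl).step (b := 2208) lev3_run23 rfl).step (b := 2304) lev3_run24 rfl).step (b := 2400) lev3_run25 rfl).step (b := 2496) lev3_run26 rfl).step (b := 2592) lev3_run27 rfl).step (b := 2688) lev3_run28 rfl).step (b := 2784) lev3_run29 rfl).step (b := 2880) lev3_run30 rfl).step (b := 2976) lev3_run31 rfl).step (b := 3072) lev3_run32 rfl).step (b := 3159) lev3_run33 rfl

theorem lev4_run1 : rangeAll (lev4.reachOK Fi23m.tab ws4) 96 0 = true := by decide +kernel

theorem lev4_run2 : rangeAll (lev4.reachOK Fi23m.tab ws4) 96 96 = true := by decide +kernel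

theorem lev4_run3 : rangeAll (lev4.reachOK Fi23m.tab ws4) 96 192 = true := by decide +kernel

theorem lev4_ok : Below (lev4.reachOK Fi23m.tab ws4) lev4.m :=
  (((Below.zero _).step (b := 96) lev4_run1 rfl).step (b := 192) lev4_run2 rfl).step (b := 288) lev4_run3 rfl

theorem lev5_run1 : rangeAll (lev5.reachOK Fi23m.tab ws5) 35 0 = true := by decide +kernel

theorem lev5_ok : Below (lev5.reachOK Fi23m.tab ws5) lev5.m :=
  (Below.zero _).step (b := 35) lev5_run1 rfl

theorem lev6_run1 : rangeAll (lev6.reachOK Fi23m.tab ws6) 12 0 = true := by decide +kernel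

theorem lev6_ok : Below (lev6.reachOK Fi23m.tab ws6) lev6.m :=
  (Below.zero _).step (b := 12) lev6_run1 rfl

theorem lev7_run1 : rangeAll (lev7.reachOK Fi23m.tab ws7) 3 0 = true := by decide +kernel

theorem lev7_ok : Below (lev7.reachOK Fi23m.tab ws7) lev7.m :=
  (Below.zero _).step (b := 3) lev7_run1 rfl

theorem lev8_run1 : rangeAll (lev8.reachOK Fi23m.tab ws8) 2 0 = true := by decide +kernel

theorem lev8_ok : Below (lev8.reachOK Fi23m.tab ws8) lev8.m :=
  (Below.zero _).step (b := 2) lev8_run1 rfl

theorem lev9_run1 : rangeAll (lev9.reachOK Fi23m.tab ws9) 2 0 = true := by decide +kernel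

theorem lev9_ok : Below (lev9.reachOK Fi23m.tab ws9) lev9.m :=
  (Below.zero _).step (b := 2) lev9_run1 rfl

theorem levels_ok : LevelsOK Fi23m.cert Fi23m.tab levels :=
  ⟨⟨by decide +kernel, lev1_ok, by decide +kernel, by decide +kernel⟩,
   ⟨by decide +kernel, lev2_ok, by decide +kernel, by decide +kernel⟩,
   ⟨by decide +kernel, lev3_ok, by decide +kernel, by decide +kernel⟩,
   ⟨by decide +kernel, lev4_ok, by decide +kernel, by decide +kernel⟩,
   ⟨by decide +kernel, lev5_ok, by decide +kernel, by decide +kernel⟩,
   ⟨by decide +kernel, lev6_ok, by decide +kernel, by decide +kernel⟩,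
   ⟨by decide +kernel, lev7_ok, by decide +kernel, by decide +kernel⟩,
   ⟨by decide +kernel, lev8_ok, by decide +kernel, by decide +kernel⟩,
   ⟨by decide +kernel, lev9_ok, by decide +kernel, by decide +kernel⟩,
   trivial⟩

theorem levels_card : levelsCard levels = 4089470473293004800 := by decide +kernel

theorem elt_base : allL (fun q => Fi23m.tab.fixOK [(List.replicate 23 elt).flatten] (q.1.get 0))
    levels = true := by decide +kernel

theorem cover_run1 : rangeAll (covered [Fi23m.orb1, Fi23m.orb2]) 512 0 = true := by decide +kernel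

theorem cover_run2 : rangeAll (covered [Fi23m.orb1, Fi23m.orb2]) 512 512 = true := by decide +kernel

theorem cover_run3 : rangeAll (covered [Fi23m.orb1, Fi23m.orb2]) 512 1024 = true := by decide +kernel

theorem cover_run4 : rangeAll (covered [Fi23m.orb1, Fi23m.orb2]) 512 1536 = true := by decide +kernel

theorem cover_run5 : rangeAll (covered [Fi23m.orb1, Fi23m.orb2]) 512 2048 = true := by decide +kernel

theorem cover_run6 : rangeAll (covered [Fi23m.orb1, Fi23m.orb2]) 512 2560 = true := by decide +kernel

theorem cover_run7 : rangeAll (covered [Fi23m.orb1, Fi23m.orb2]) 512 3072 = true := by decide +kernel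

theorem cover_run8 : rangeAll (covered [Fi23m.orb1, Fi23m.orb2]) 512 3584 = true := by decide +kernel

theorem cover_run9 : rangeAll (covered [Fi23m.orb1, Fi23m.orb2]) 512 4096 = true := by decide +kernel

theorem cover_run10 : rangeAll (covered [Fi23m.orb1, Fi23m.orb2]) 512 4608 = true := by decide +kernel

theorem cover_run11 : rangeAll (covered [Fi23m.orb1, Fi23m.orb2]) 512 5120 = true := by decide +kernel

theorem cover_run12 : rangeAll (covered [Fi23m.orb1, Fi23m.orb2]) 512 5632 = true := by decide +kernel

theorem cover_run13 : rangeAll (covered [Fi23m.orb1, Fi23m.orb2]) 512 6144 = true := by decide +kernel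

theorem cover_run14 : rangeAll (covered [Fi23m.orb1, Fi23m.orb2]) 512 6656 = true := by decide +kernel

theorem cover_run15 : rangeAll (covered [Fi23m.orb1, Fi23m.orb2]) 512 7168 = true := by decide +kernel

theorem cover_run16 : rangeAll (covered [Fi23m.orb1, Fi23m.orb2]) 512 7680 = true := by decide +kernel

theorem cover_run17 : rangeAll (covered [Fi23m.orb1, Fi23m.orb2]) 512 8192 = true := by decide +kernel

theorem cover_run18 : rangeAll (covered [Fi23m.orb1, Fi23m.orb2]) 512 8704 = true := by decide +kernel

theorem cover_run19 : rangeAll (covered [Fi23m.orb1, Fi23m.orb2]) 512 9216 = true := by decide +kernel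

theorem cover_run20 : rangeAll (covered [Fi23m.orb1, Fi23m.orb2]) 512 9728 = true := by decide +kernel

theorem cover_run21 : rangeAll (covered [Fi23m.orb1, Fi23m.orb2]) 512 10240 = true := by decide +kernel

theorem cover_run22 : rangeAll (covered [Fi23m.orb1, Fi23m.orb2]) 512 10752 = true := by decide +kernel

theorem cover_run23 : rangeAll (covered [Fi23m.orb1, Fi23m.orb2]) 512 11264 = true := by decide +kernel

theorem cover_run24 : rangeAll (covered [Fi23m.orb1, Fi23m.orb2]) 512 11776 = true := by decide +kernel

theorem cover_run25 : rangeAll (covered [Fi23m.orb1, Fi23m.orb2]) 512 12288 = true := by decide +kernel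

theorem cover_run26 : rangeAll (covered [Fi23m.orb1, Fi23m.orb2]) 512 12800 = true := by decide +kernel

theorem cover_run27 : rangeAll (covered [Fi23m.orb1, Fi23m.orb2]) 512 13312 = true := by decide +kernel

theorem cover_run28 : rangeAll (covered [Fi23m.orb1, Fi23m.orb2]) 512 13824 = true := by decide +kernel

theorem cover_run29 : rangeAll (covered [Fi23m.orb1, Fi23m.orb2]) 512 14336 = true := by decide +kernel

theorem cover_run30 : rangeAll (covered [Fi23m.orb1, Fi23m.orb2]) 512 14848 = true := by decide +kernel

theorem cover_run31 : rangeAll (covered [Fi23m.orb1, Fi23m.orb2]) 512 15360 = true := by decide +kernel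

theorem cover_run32 : rangeAll (covered [Fi23m.orb1, Fi23m.orb2]) 512 15872 = true := by decide +kernel

theorem cover_run33 : rangeAll (covered [Fi23m.orb1, Fi23m.orb2]) 512 16384 = true := by decide +kernel

theorem cover_run34 : rangeAll (covered [Fi23m.orb1, Fi23m.orb2]) 512 16896 = true := by decide +kernel

theorem cover_run35 : rangeAll (covered [Fi23m.orb1, Fi23m.orb2]) 512 17408 = true := by decide +kernel

theorem cover_run36 : rangeAll (covered [Fi23m.orb1, Fi23m.orb2]) 512 17920 = true := by decide +kernel

theorem cover_run37 : rangeAll (covered [Fi23m.orb1, Fi23m.orb2]) 512 18432 = true := by decide +kernel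

theorem cover_run38 : rangeAll (covered [Fi23m.orb1, Fi23m.orb2]) 512 18944 = true := by decide +kernel

theorem cover_run39 : rangeAll (covered [Fi23m.orb1, Fi23m.orb2]) 512 19456 = true := by decide +kernel

theorem cover_run40 : rangeAll (covered [Fi23m.orb1, Fi23m.orb2]) 512 19968 = true := by decide +kernel

theorem cover_run41 : rangeAll (covered [Fi23m.orb1, Fi23m.orb2]) 512 20480 = true := by decide +kernel

theorem cover_run42 : rangeAll (covered [Fi23m.orb1, Fi23m.orb2]) 512 20992 = true := by decide +kernel

theorem cover_run43 : rangeAll (covered [Fi23m.orb1, Fi23m.orb2]) 512 21504 = true := by decide +kernel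

theorem cover_run44 : rangeAll (covered [Fi23m.orb1, Fi23m.orb2]) 512 22016 = true := by decide +kernel

theorem cover_run45 : rangeAll (covered [Fi23m.orb1, Fi23m.orb2]) 512 22528 = true := by decide +kernel

theorem cover_run46 : rangeAll (covered [Fi23m.orb1, Fi23m.orb2]) 512 23040 = true := by decide +kernel

theorem cover_run47 : rangeAll (covered [Fi23m.orb1, Fi23m.orb2]) 512 23552 = true := by decide +kernel

theorem cover_run48 : rangeAll (covered [Fi23m.orb1, Fi23m.orb2]) 512 24064 = true := by decide +kernel

theorem cover_run49 : rangeAll (covered [Fi23m.orb1, Fi23m.orb2]) 512 24576 = true := by decide +kernel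

theorem cover_run50 : rangeAll (covered [Fi23m.orb1, Fi23m.orb2]) 512 25088 = true := by decide +kernel

theorem cover_run51 : rangeAll (covered [Fi23m.orb1, Fi23m.orb2]) 512 25600 = true := by decide +kernel

theorem cover_run52 : rangeAll (covered [Fi23m.orb1, Fi23m.orb2]) 512 26112 = true := by decide +kernel

theorem cover_run53 : rangeAll (covered [Fi23m.orb1, Fi23m.orb2]) 512 26624 = true := by decide +kernel

theorem cover_run54 : rangeAll (covered [Fi23m.orb1, Fi23m.orb2]) 512 27136 = true := by decide +kernel

theorem cover_run55 : rangeAll (covered [Fi23m.orb1, Fi23m.orb2]) 512 27648 = true := by decide +kernel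

theorem cover_run56 : rangeAll (covered [Fi23m.orb1, Fi23m.orb2]) 512 28160 = true := by decide +kernel

theorem cover_run57 : rangeAll (covered [Fi23m.orb1, Fi23m.orb2]) 512 28672 = true := by decide +kernel

theorem cover_run58 : rangeAll (covered [Fi23m.orb1, Fi23m.orb2]) 512 29184 = true := by decide +kernel

theorem cover_run59 : rangeAll (covered [Fi23m.orb1, Fi23m.orb2]) 512 29696 = true := by decide +kernel

theorem cover_run60 : rangeAll (covered [Fi23m.orb1, Fi23m.orb2]) 512 30208 = true := by decide +kernel

theorem cover_run61 : rangeAll (covered [Fi23m.orb1, Fi23m.orb2]) 512 30720 = true := by decide +kernel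

theorem cover_run62 : rangeAll (covered [Fi23m.orb1, Fi23m.orb2]) 439 31232 = true := by decide +kernel

theorem covered_ok : Below (covered [Fi23m.orb1, Fi23m.orb2]) 31671 :=
  ((((((((((((((((((((((((((((((((((((((((((((((((((((((((((((((Below.zero _).step (b := 512) cover_run1 rfl).step (b := 1024) cover_run2 rfl).step (b := 1536) cover_run3 rfl).step (b := 2048) cover_run4 rfl).step (b := 2560) cover_run5 rfl).step (b := 3072) cover_run6 rfl).step (b := 3584) cover_run7 rfl).step (b := 4096) cover_run8 rfl).step (b := 4608) cover_run9 rfl).step (b := 5120) cover_run10 rfl).step (b := 5632) cover_run11 rfl).step (b := 6144) cover_run12 rfl).step (b := 6656) cover_run13 rfl).step (b := 7168) cover_run14 rfl).step (b := 7680) cover_run15 rfl).step (b := 8192) cover_run16 rfl).step (b := 8704) cover_run17 rfl).step (b := 9216) cover_run18 rfl).step (b := 9728) cover_run19 rfl).step (b := 10240) cover_run20 rfl).step (b := 10752) cover_run21 rfl).step (b := 11264) cover_run22 rfl).step (b := 11776) cover_run23 rfl).step (b := 12288) cover_run24 rfl).step (b := 12800)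 cover_run25 rfl).step (b := 13312) cover_run26 rfl).step (b := 13824) cover_run27 rfl).step (b := 14336) cover_run28 rfl).step (b := 14848) cover_run29 rfl).step (b := 15360) cover_run30 rfl).step (b := 15872) cover_run31 rfl).step (b := 16384) cover_run32 rfl).step (b := 16896) cover_run33 rfl).step (b := 17408) cover_run34 rfl).step (b := 17920) cover_run35 rfl).step (b := 18432) cover_run36 rfl).step (b := 18944) cover_run37 rfl).step (b := 19456) cover_run38 rfl).step (b := 19968) cover_run39 rfl).step (b := 20480) cover_run40 rfl).step (b := 20992) cover_run41 rfl).step (b := 21504) cover_run42 rfl).step (b := 22016) cover_run43 rfl).step (b := 22528) cover_run44 rfl).step (b := 23040) cover_run45 rfl).step (b := 23552) cover_run46 rfl).step (b := 24064) cover_run47 rfl).step (b := 24576) cover_run48 rfl).step (b := 25088) cover_run49 rfl).step (b := 25600) cover_run50 rfl).step (b := 26112) cover_run51 rfl).step (b := 26624) cover_run52 rfl).step (b := 27136) cover_run53 rfl).step (b := 27648) cover_run54 rfl).step (b := 28160) cover_run55 rfl).step (b := 28672)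 cover_run56 rfl).step (b := 29184) cover_run57 rfl).step (b := 29696) cover_run58 rfl).step (b := 30208) cover_run59 rfl).step (b := 30720) cover_run60 rfl).step (b := 31232) cover_run61 rfl).step (b := 31671) cover_run62 rfl

end Cfsg.Agent.Lib.CosetTable.Fi23Simple
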